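import Cfsg.Agent.Omega.IId.Ns.Half

/-!
# NO-3L box R, THEOREM K: `k ≥ 2` natural blocks, `q > 2`: the two halves of the blocks

`M : NatK F S P (zl S P) (cv S P) k`. `Hf M S₁ J` : `S₁` has index 2 in `S`, `J` and its complement are the two orbits of
`S₁` on the blocks.
-/

set_option autoImplicit false
set_option linter.unusedSectionVars false

namespace Cfsg.Agent.Omega.NOThreeL.KTwo.Defs

open Subgroup Cfsg Cfsg.Agent.ZN Cfsg.Agent.Omega.MinPar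
open Cfsg.Agent.Omega.FrameFF Cfsg.Agent.Omega.FFThm Cfsg.Agent.Lib.SL2Mat
open Cfsg.Agent.Omega.IId.Ns
open scoped Pointwise

universe u

variable {G : Type u} [Group G] {F : Type} [Field F]

/-- `S₁` has index 2 in `S` and the two orbits `J`, `¬ J` on the blocks. -/
structure Hf {S P : Subgroup G} {k : ℕ} (M : NatK F S P (zl S P) (cv S P) k) (S₁ : Subgroup G)
    (J : Fin k → Prop) : Prop where
  le : S₁ ≤ S
  two : ∀ a ∈ S, ∀ b ∈ S, a ∉ S₁ → b ∉ S₁ → a⁻¹ * b ∈ S₁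
  ne : ∃ s ∈ S, s ∉ S₁
  stab : ∀ s ∈ S₁, ∀ i j, Mv M s i j → (J i ↔ J j)
  swap : ∀ s ∈ S, s ∉ S₁ → ∀ i j, Mv M s i j → (J i ↔ ¬ J j)
  trans : ∀ i j, J i → J j → ∃ s ∈ S₁, Mv M s i j
  transN : ∀ i j, ¬ J i → ¬ J j → ∃ s ∈ S₁, Mv M s i j
  ex : ∃ i, J i
  exN : ∃ i, ¬ J i

theorem Hf.symm {S P : Subgroup G} {k : ℕ} {M : NatK F S P (zl S P) (cv S P) k} {S₁ : Subgroup G}
    {J : Fin k → Prop} (Q : Hf M S₁ J) : Hf M S₁ (fun i => ¬ J i) where
  le := Q.le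
  two := Q.two
  ne := Q.ne
  stab s hs i j h := not_congr (Q.stab s hs i j h)
  swap s hs hs1 i j h := by
    have := Q.swap s hs hs1 i j h
    tauto
  trans i j hi hj := Q.transN i j hi hj
  transN i j hi hj := Q.trans i j (not_not.1 hi) (not_not.1 hj)
  ex := Q.exN
  exN := by
    obtain ⟨i, hi⟩ := Q.ex
    exact ⟨i, not_not.2 hi⟩

/-- HALF, as a proposition: `H` of characteristic 2, `S₁ ≤ H`, `H` contains lifts of all `SL₂(F)_l`, `l ∈ J` ==>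
`N_l ≤ Ω₁(Z(O₂(H)))`, `l ∈ J`. -/
def HALF {S P : Subgroup G} {k : ℕ} (M : NatK F S P (zl S P) (cv S P) k) (S₁ : Subgroup G) (J : Fin k → Prop) :
    Prop :=
  ∀ H : Subgroup G, S₁ ≤ H → (∀ l, J l → ∀ B, ∃ x ∈ H, Al M l x B) → H ⊓ centralizer (o2 H : Set G) ≤ o2 H →
    ∀ l, J l → Nc M l ≤ zc (o2 H)

/-- `x` is good for the blocks in `J`: the conjugates of `N_l`, `l ∈ J`, under `C_G(x)` commute. -/
def Good {S P : Subgroup G} {k : ℕ} (M : NatK F S P (zl S P) (cv S P) k) (J : Fin k → Prop) (x : G) : Prop :=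
  ∀ l, J l → ∀ g ∈ centralizer ({x} : Set G), Nc M l ≤ centralizer ((MulAut.conj g • Nc M l : Subgroup G) : Set G)

end Cfsg.Agent.Omega.NOThreeL.KTwo.Defs
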