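import Cfsg.Agent.Omega.NOThreeL.KTwo.EndY

/-!
# NO-3L, `R ∩ (A)`, `k ≥ 2`: THEOREM K (#21065, helper162), (3): the case `|T| > 2`

`|U : C_U(N_l)| > 2` for all `l`: two elements `u, w ∈ U` with different nonzero parameters `t ≠ t'` at `l`;
`λ² t = t'`, `x` a lift of `diag (λ, λ⁻¹)` in the `l`-th block, `n ∈ N_l`: `[u, n] · x [u, n] x⁻¹ ∈ U` has the
coordinates `((1 + λ) t c, 0)` at `l` and is killed by `e_l`.

* `exists_rho` : the vectors `ρ_{l,s} ∈ U ∩ V`;
* `exists_X` .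
-/

set_option autoImplicit false
set_option linter.unusedSectionVars false

namespace Cfsg.Agent.Omega.NOThreeL.KTwo

open Subgroup Cfsg Cfsg.Agent.ZN Cfsg.Agent.Omega.MinPar
open Cfsg.Agent.Omega.FrameFF Cfsg.Agent.Omega.FFThm Cfsg.Agent.Lib.SL2Mat
open Cfsg.Agent.Omega.NatPair (ap ap_add ap_mul ap_one ap_inj ext2 ap_zero' ap_one' ap_inv_ap ap_ap_inv)
open Cfsg.Agent.Omega.HOne (cv_le conj_mem_zl conj_mem_cv)
open Cfsg.Agent.Omega.IId.Cv Cfsg.Agent.Omega.IId.Ns
open Cfsg.Agent.Omega.NOThreeL.AFour (Quad)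
open Cfsg.Agent.Omega.NOThreeL.KTwo.Defs
open Cfsg.Agent.MinSimple.VModule (zc_comm zc_sq zc_le mem_zc le_normalizer_o2 normalizer_le_normalizer_zc zc_le_zl
  o2_isPGroup o2_le)
open scoped Pointwise

universe u

variable {G : Type u} [Group G] {F : Type} [Field F]

attribute [local instance] aqComm

section main

variable [Finite G] [CharP F 2] (hG : IsCharacteristicTwoType G) (S : Sylow 2 G) {P : Subgroup G}
  (h : IsParS (S : Subgroup G) P) {k : ℕ}
  {M : NatK F (S : Subgroup G) P (zl (S : Subgroup G) P) (cv (S : Subgroup G) P) k}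
  {U : Subgroup G} (hq : Quad (S : Subgroup G) P U)

variable [Fintype F] [DecidableEq F]

include hG h hq in
/-- the vector `(s, 0)` of the `l`-th block, in `U` -/
theorem exists_rho (hF : 4 ≤ Nat.card F) {l : Fin k} (h3 : 2 < (centralizer (Nc M l : Set G)).relIndex U) (s : F) :
    ∃ r : ↥(zc (o2 P)), (r : G) ∈ U ∧ r ∈ VA S P ∧ M.e (r : G) l = ![s, 0] ∧ (∀ j, j ≠ l → M.e (r : G) j = 0) ∧
      eA S M l r = 1 := by
  have hk : 0 < k := l.pos
  have hω := exists_omega hF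
  obtain ⟨u, hu, w, hw, hu0, hw0, hne⟩ := exists_two hG S h hq hω h3
  set t := bt M u l with ht
  set t' := bt M w l with ht'
  obtain ⟨m, hm⟩ : IsSquare (t' / t) := FiniteField.isSquare_of_char_two (ringChar.eq F 2) _
  have hm0 : m ≠ 0 := by
    rintro rfl
    rw [mul_zero, div_eq_zero_iff] at hm
    exact hm.elim hw0 hu0
  have hmt : m ^ 2 * t = t' := by
    rw [pow_two, ← hm]
    field_simp
  have hm1 : 1 + m ≠ 0 := by
    intro h1
    have h2 : m = 1 := by
      have htwo : (2 : F) = 0 := CharTwo.two_eq_zero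
      linear_combination h1 - htwo
    rw [h2, one_pow, one_mul] at hmt
    exact hne hmt
  set c := s / (t * (1 + m)) with hc
  obtain ⟨n, hn, hne'⟩ := Sd.Nc_surj M l ![0, c]
  have hnV := Sd.Nc_le M l hn
  have hx := lf_spec S M l (dg m hm0)
  set x := lf S M l (dg m hm0) with hxd
  set κ := Kap hG S h M (hq.UP hu) l ⟨n, hn⟩ with hκ
  have hκV : κ ∈ VA S P := Kap_VA hG S h _ _
  have hκl : M.e (κ : G) l = ![t * c, 0] := by
    have h1 := Kap_e hG S h hq hu (M := M) (⟨n, hn⟩ : ↥(Nc M l))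
    rw [hκ, h1]
    change ![bt M u l * M.e n l 1, 0] = _
    rw [hne']
    rfl
  have hκj : ∀ j, j ≠ l → M.e (κ : G) j = 0 := fun j hj => Kap_e_ne hG S h hq hu hj _
  have hκU : (κ : G) ∈ U := by
    rw [hκ, Kap_val]
    exact hq.cm_mem hu (hq.VS hnV)
  set κ' := rh S M l (dg m hm0) κ with hκ'
  have hκ'v : (κ' : G) = x * κ * x⁻¹ := rh_val hG S h hk M hx κ
  have hκ'V : κ' ∈ VA S P := rh_VA S M l _ hκV
  have hn' : x * n * x⁻¹ ∈ Nc M l := Nc_mvK hx.1 hx.mv hn
  have hxu : x * u * x⁻¹ ∈ P := mul_mem (mul_mem hx.1 (hq.UP hu)) (inv_mem hx.1)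
  have hact : ∀ v ∈ zl (S : Subgroup G) P, M.e (x * u * x⁻¹ * v * (x * u * x⁻¹)⁻¹) l = ap (up t') (M.e v l) := by
    intro v hv
    have h1 := hx.inv.same hv
    have h2 := (U_acts hG S h hq hk hu (M := M)).1 _ (hx.inv.V hv) l
    have h4 := hx.same (conj_mem_zl (hq.UP hu) (hx.inv.V hv))
    have e : x * u * x⁻¹ * v * (x * u * x⁻¹)⁻¹ = x * (u * (x⁻¹ * v * x⁻¹⁻¹) * u⁻¹) * x⁻¹ := by group
    rw [e, h4, h2, h1]
    change ap (dg m hm0) (ap (up t) (ap (dg m hm0)⁻¹ (M.e v l))) = _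
    rw [← ap_mul, ← ap_mul, dg_up, hmt, mul_inv_cancel_right]
  have hκ'U : (κ' : G) ∈ U := by
    have h1 := eq_on_Nc hG S h hω (A := up t') hxu (hq.UP hw) hact
      (fun v hv => (U_acts hG S h hq hk hw (M := M)).1 v hv l) hn'
    have e : (κ' : G) = w * (x * n * x⁻¹) * w⁻¹ * (x * n * x⁻¹)⁻¹ := by
      rw [← h1, hκ'v, hκ, Kap_val]
      change x * (u * n * u⁻¹ * n⁻¹) * x⁻¹ = _
      group
    rw [e]
    exact hq.cm_mem hw (hq.VS (Sd.Nc_le M l hn'))
  refine ⟨κ * κ', mul_mem hκU hκ'U, mul_mem hκV hκ'V, ?_, fun j hj => ?_, ?_⟩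
  · change M.e ((κ : G) * κ') l = _
    rw [M.mul _ ((mem_VA S).1 hκV) _ ((mem_VA S).1 hκ'V), Pi.add_apply, hκ'v, hx.same ((mem_VA S).1 hκV), hκl]
    have e1 : t * c * (1 + m) = s := by
      rw [hc]
      field_simp
    apply ext2
    · rw [Pi.add_apply, ap_zero']
      simp
      linear_combination e1
    · rw [Pi.add_apply, ap_one']
      simp
  · change M.e ((κ : G) * κ') j = _
    rw [M.mul _ ((mem_VA S).1 hκV) _ ((mem_VA S).1 hκ'V), Pi.add_apply, hκ'v, hx.ne ((mem_VA S).1 hκV) hj, hκj j hj,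
      add_zero]
  · have h2 : eA S M l κ' = eA S M l κ := by
      rw [hκ', eA_apply, eA_apply]
      refine Fintype.prod_equiv (Equiv.mulRight (Units.mk0 m hm0)) _ _ fun l => ?_
      rw [← rh_mul hG S h hk, dg_mul_dg]
      rfl
    rw [map_mul, h2, A_sq]

include hG h hq in
/-- **the case `|T| > 2`** -/
theorem exists_X (hF : 4 ≤ Nat.card F) {S₁ : Subgroup G} {J : Fin k → Prop} (Q : Hf M S₁ J)
    (h3 : ∀ l, 2 < (centralizer (Nc M l : Set G)).relIndex U) {E : Subgroup G} (hEU : E ≤ U)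
    (hED : E ≤ cv (S : Subgroup G) P) (hE : E ≠ ⊥) :
    ∃ X ≤ U, Nat.card F < Nat.card X ∧ ∀ x ∈ X, ∃ (r : ↥(zc (o2 P))) (d : G), x = (r : G) * d ∧
      d ∈ E ∧ (r : G) ∈ zl (S : Subgroup G) P ∧ (∀ l, J l → M.e (r : G) l = 0) ∧
      (∀ l, M.e (r : G) l 1 = 0) ∧ eL S M (LJ fun l => ¬ J l) r = 1 ∧
      ((∀ l, ¬ J l → M.e (r : G) l ≠ 0) ∨ r = 1) := by
  classical
  have hk := Q.pos S
  obtain ⟨l₀, hl₀⟩ := Q.exN
  choose ρ hρU hρV hρl hρj hρe using fun (l : Fin k) (s : F) => exists_rho hG S h hq hF (h3 l) s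
  have hEV : ∀ e ∈ E, e ∈ zl (S : Subgroup G) P := fun e he => cv_le _ _ (hED he)
  -- `r_s`
  let rr : F → ↥(zc (o2 P)) := fun s => ∏ l ∈ Finset.univ.filter fun l => ¬ J l, ρ l s
  have hrV : ∀ s, rr s ∈ VA S P := fun s => Subgroup.prod_mem _ fun l _ => hρV l s
  have hrU : ∀ s, ((rr s : ↥(zc (o2 P))) : G) ∈ U := fun s => by
    have h1 : rr s ∈ U.subgroupOf (zc (o2 P)) := Subgroup.prod_mem _ fun l _ => mem_subgroupOf.2 (hρU l s)
    exact mem_subgroupOf.1 h1
  have hre : ∀ s, M.e (rr s : G) = ∑ l ∈ Finset.univ.filter fun l => ¬ J l, M.e (ρ l s : G) := fun s =>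
    (e_prod S _ _ fun l _ => hρV l s).2
  have hrJ : ∀ s l, J l → M.e (rr s : G) l = 0 := by
    intro s l hl
    rw [hre, Finset.sum_apply]
    refine Finset.sum_eq_zero fun j hj => hρj j s l ?_
    rintro rfl
    exact (Finset.mem_filter.1 hj).2 hl
  have hrN : ∀ s l, ¬ J l → M.e (rr s : G) l = ![s, 0] := by
    intro s l hl
    rw [hre, Finset.sum_apply, Finset.sum_eq_single l]
    · exact hρl l s
    · intro j _ hj
      exact hρj j s l hj.symm
    · intro h1
      exact absurd (Finset.mem_filter.2 ⟨Finset.mem_univ l, hl⟩) h1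
  have hrL : ∀ s, eL S M (LJ fun l => ¬ J l) (rr s) = 1 := by
    intro s
    change eL S M (LJ fun l => ¬ J l) (∏ l ∈ Finset.univ.filter fun l => ¬ J l, ρ l s) = 1
    rw [map_prod]
    refine Finset.prod_eq_one fun l hl => ?_
    exact eL_one hG S h hk M (mem_LJ.2 (Finset.mem_filter.1 hl).2) (hρe l s)
  -- `X`
  let X : Subgroup G :=
    { carrier := {x | ∃ (r : ↥(zc (o2 P))) (d : G) (s : F), x = (r : G) * d ∧ d ∈ E ∧ (r : G) ∈ U ∧
        (r : G) ∈ zl (S : Subgroup G) P ∧ (∀ l, J l → M.e (r : G) l = 0) ∧ (∀ l, ¬ J l → M.e (r : G) l = ![s, 0]) ∧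
        eL S M (LJ fun l => ¬ J l) r = 1}
      one_mem' := ⟨1, 1, 0, (mul_one _).symm, one_mem _, one_mem _, one_mem _,
        fun l _ => by
          change M.e 1 l = 0
          rw [e_one M]; rfl,
        fun l _ => by
          change M.e 1 l = _
          rw [e_one M]
          apply ext2 <;> simp,
        map_one _⟩
      mul_mem' := by
        rintro a b ⟨r, d, s, rfl, hd, hr1, hr2, hr3, hr4, hr5⟩ ⟨r', d', s', rfl, hd', hr1', hr2', hr3', hr4', hr5'⟩
        refine ⟨r * r', d * d', s + s', ?_, mul_mem hd hd', mul_mem hr1 hr1', mul_mem hr2 hr2', fun l hl => ?_,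
          fun l hl => ?_, ?_⟩
        · change (r : G) * d * (r' * d') = (r : G) * r' * (d * d')
          have h4 := Sd.V_comm hG S h (hEV d hd) hr2'
          calc (r : G) * d * (r' * d') = r * (d * r') * d' := by group
            _ = r * (r' * d) * d' := by rw [h4]
            _ = (r : G) * r' * (d * d') := by group
        · change M.e ((r : G) * r') l = 0
          rw [M.mul _ hr2 _ hr2', Pi.add_apply, hr3 l hl, hr3' l hl, add_zero]
        · change M.e ((r : G) * r') l = _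
          rw [M.mul _ hr2 _ hr2', Pi.add_apply, hr4 l hl, hr4' l hl]
          apply ext2 <;> simp
        · rw [map_mul, hr5, hr5', one_mul]
      inv_mem' := by
        rintro a ⟨r, d, s, rfl, hd, hr1, hr2, hr3, hr4, hr5⟩
        refine ⟨r⁻¹, d⁻¹, -s, ?_, inv_mem hd, inv_mem hr1, inv_mem hr2, fun l hl => ?_,
          fun l hl => ?_, ?_⟩
        · change ((r : G) * d)⁻¹ = (r : G)⁻¹ * d⁻¹
          rw [mul_inv_rev]
          exact Sd.V_comm hG S h (inv_mem (hEV d hd)) (inv_mem hr2)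
        · change M.e (r : G)⁻¹ l = 0
          rw [e_inv M hr2, Pi.neg_apply, hr3 l hl, neg_zero]
        · change M.e (r : G)⁻¹ l = _
          rw [e_inv M hr2, Pi.neg_apply, hr4 l hl]
          apply ext2 <;> simp
        · rw [map_inv, hr5, inv_one] }
  have hmem : ∀ (s : F) (d : ↥E), ((rr s : ↥(zc (o2 P))) : G) * d ∈ X := fun s d =>
    ⟨rr s, d, s, rfl, d.2, hrU s, (mem_VA S).1 (hrV s), hrJ s, hrN s, hrL s⟩
  refine ⟨X, ?_, ?_, ?_⟩
  · rintro _ ⟨r, d, s, rfl, hd, hr1, -⟩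
    exact mul_mem hr1 (hEU hd)
  · have hinj : Function.Injective (fun x : F × ↥E => (⟨((rr x.1 : ↥(zc (o2 P))) : G) * x.2, hmem x.1 x.2⟩ : X)) := by
      rintro ⟨s, d⟩ ⟨s', d'⟩ heq
      have h1 : ((rr s : ↥(zc (o2 P))) : G) * d = (rr s' : ↥(zc (o2 P))) * d' := congrArg Subtype.val heq
      have hd0 : ∀ d : ↥E, M.e (d : G) = 0 := fun d => (M.ker _ (hEV d d.2)).2 (hED d.2)
      have h2 := congrArg (fun a => M.e a l₀ 0) h1
      simp only [M.mul _ ((mem_VA S).1 (hrV s)) _ (hEV d d.2), M.mul _ ((mem_VA S).1 (hrV s')) _ (hEV d' d'.2),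
        Pi.add_apply, hd0, Pi.zero_apply, add_zero, hrN _ l₀ hl₀, Matrix.cons_val_zero] at h2
      subst h2
      have h4 := mul_left_cancel h1
      rw [Subtype.ext h4]
    have h5 := Nat.card_le_card_of_injective _ hinj
    rw [Nat.card_prod] at h5
    have h6 : 2 ≤ Nat.card ↥E := by
      by_contra hcon
      have h7 : 0 < Nat.card ↥E := Nat.card_pos
      have h8 : Nat.card ↥E = 1 := by omega
      exact hE (Subgroup.card_eq_one.1 h8)
    have h9 : 0 < Nat.card F := Nat.card_pos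
    nlinarith
  · rintro _ ⟨r, d, s, rfl, hd, hr1, hr2, hr3, hr4, hr5⟩
    refine ⟨r, d, rfl, hd, hr2, hr3, fun l => ?_, hr5, ?_⟩
    · by_cases hl : J l
      · rw [hr3 l hl]; rfl
      · rw [hr4 l hl]
        simp
    · by_cases hs : s = 0
      · right
        have h0 : ∀ l ∈ LJ fun l => ¬ J l, M.e (r : G) l = 0 := by
          intro l hl
          rw [hr4 l (mem_LJ.1 hl), hs]
          apply ext2 <;> simp
        rw [← eL_of_coord hG S h hk M hF ((mem_VA S).2 hr2) h0, hr5]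
      · left
        intro l hl h0
        rw [hr4 l hl] at h0
        have h1 := congrFun h0 0
        simp at h1
        exact hs h1

end main

end Cfsg.Agent.Omega.NOThreeL.KTwo
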