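import Cfsg.Agent.Omega.NOThreeL.KTwo.Defs

/-!
# NO-3L box R, THEOREM K: `k ≥ 2`: the two halves exist

* `exists_card` : `T < S`, `S` a 2-group: `T ≤ S₁ ≤ S` with `|S : S₁| = 2`;
* **`exists_hf`** : `2 ≤ k`: for every block `i` there are `S₁`, `J` with `Hf M S₁ J` and `J i`.
-/

set_option autoImplicit false
set_option linter.unusedSectionVars false

namespace Cfsg.Agent.Omega.NOThreeL.KTwo.Defs

open Subgroup Cfsg Cfsg.Agent.ZN Cfsg.Agent.Omega.MinPar
open Cfsg.Agent.Omega.FrameFF Cfsg.Agent.Omega.FFThm Cfsg.Agent.Lib.SL2Mat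
open Cfsg.Agent.Omega.IId.Ns
open scoped Pointwise

universe u

variable {G : Type u} [Group G] {F : Type} [Field F]

/-- a proper subgroup of a 2-group is contained in a subgroup of index 2 -/
theorem exists_card [Finite G] {T S : Subgroup G} (hS : IsPGroup 2 S) (hT : T ≤ S) (hne : T ≠ S) :
    ∃ S₁ : Subgroup G, T ≤ S₁ ∧ S₁ ≤ S ∧ Nat.card S = 2 * Nat.card S₁ := by
  have : Fact (Nat.Prime 2) := ⟨Nat.prime_two⟩
  obtain ⟨a, ha⟩ := IsPGroup.iff_card.1 hS
  have hT2 : IsPGroup 2 (T.subgroupOf S) := hS.to_subgroup _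
  obtain ⟨b, hb⟩ := IsPGroup.iff_card.1 hT2
  have hlt : b < a := by
    by_contra hcon
    have h1 : Nat.card S ≤ Nat.card (T.subgroupOf S) := by
      rw [ha, hb]
      exact Nat.pow_le_pow_right two_pos (not_lt.1 hcon)
    have h2 : T.subgroupOf S = ⊤ := eq_top_of_le_card _ h1
    exact hne (le_antisymm hT (subgroupOf_eq_top.1 h2))
  obtain ⟨K, hK, hTK⟩ := Sylow.exists_subgroup_card_pow_prime_le (G := S) 2 (n := b) (m := a - 1)
    (by rw [ha]; exact pow_dvd_pow 2 (Nat.sub_le a 1)) (T.subgroupOf S) hb (by omega)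
  refine ⟨K.map S.subtype, ?_, map_subtype_le K, ?_⟩
  · intro t ht
    exact ⟨⟨t, hT ht⟩, hTK (mem_subgroupOf.2 ht), rfl⟩
  · have h3 : Nat.card (K.map S.subtype) = Nat.card K := card_map_of_injective S.subtype_injective
    rw [h3, hK, ha, ← pow_succ']
    congr 1
    omega

/-- **the halves exist** -/
theorem exists_hf [Finite G] (S : Sylow 2 G) {P : Subgroup G} (h : IsParS (S : Subgroup G) P) {k : ℕ}
    (hk : 2 ≤ k) (M : NatK F (S : Subgroup G) P (zl (S : Subgroup G) P) (cv (S : Subgroup G) P) k) (i : Fin k) :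
    ∃ (S₁ : Subgroup G) (J : Fin k → Prop), Hf M S₁ J ∧ J i := by
  have hTS : Tc M i ≤ (S : Subgroup G) := fun t ht => ht.1.1
  have hne : Tc M i ≠ S := by
    intro h1
    have : Nontrivial (Fin k) := Fin.nontrivial_iff_two_le.2 hk
    obtain ⟨j, hj⟩ := exists_ne i
    obtain ⟨t, ht, h2⟩ := M.trans i j
    have h3 : t ∈ Tc M i := by
      rw [h1]
      exact ht
    exact hj (Mv.unique (M := M) (g := t) (i := i) h2 h3.2 (h.le ht))
  obtain ⟨S₁, hT, hle, hc⟩ := exists_card S.isPGroup' hTS hne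
  have htwo := IId.Two.two_cosets hle hc
  have hP : ∀ s ∈ S₁, s ∈ P := fun s hs => h.le (hle hs)
  -- two elements of `S` with `i ↦ j` are in the same coset of `S₁`
  have key : ∀ s ∈ (S : Subgroup G), ∀ t ∈ (S : Subgroup G), ∀ j, Mv M s i j → Mv M t i j → s⁻¹ * t ∈ S₁ := by
    intro s hs t ht j h1 h2
    exact hT ⟨⟨mul_mem (inv_mem hs) ht, mul_mem (inv_mem (h.le hs)) (h.le ht)⟩, (h1.inv (h.le hs)).mul h2 (h.le ht)⟩
  let J : Fin k → Prop := fun j => ∃ s ∈ S₁, Mv M s i j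
  have hJi : J i := ⟨1, one_mem _, fun v _ => by rw [one_mul, inv_one, mul_one]⟩
  -- `s` with `i ↦ j` is in `S₁` iff `J j`
  have hJ : ∀ s ∈ (S : Subgroup G), ∀ j, Mv M s i j → (J j ↔ s ∈ S₁) := by
    intro s hs j h1
    constructor
    · rintro ⟨t, ht, h2⟩
      have h3 := key s hs t (hle ht) j h1 h2
      have h4 : s⁻¹ ∈ S₁ := (mul_mem_cancel_right ht).1 h3
      exact inv_mem_iff.1 h4
    · intro h2
      exact ⟨s, h2, h1⟩
  have hmul : ∀ s ∈ (S : Subgroup G), ∀ t ∈ (S : Subgroup G), s ∉ S₁ → t ∉ S₁ → s * t ∈ S₁ := by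
    intro s hs t ht h1 h2
    have h3 := htwo s⁻¹ (inv_mem hs) t ht (fun h3 => h1 (inv_mem_iff.1 h3)) h2
    rwa [inv_inv] at h3
  refine ⟨S₁, J, ⟨hle, htwo, IId.Two.exists_not_mem hle hc, ?_, ?_, ?_, ?_, ⟨i, hJi⟩, ?_⟩, hJi⟩
  · -- stab
    intro s hs a b hab
    obtain ⟨u, hu, hua⟩ := M.trans i a
    have hua' : Mv M u i a := hua
    rw [hJ u hu a hua', hJ (s * u) (mul_mem (hle hs) hu) b (hab.mul hua' (h.le hu)), mul_mem_cancel_left hs]
  · -- swap
    intro s hs hs1 a b hab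
    obtain ⟨u, hu, hua⟩ := M.trans i a
    have hua' : Mv M u i a := hua
    rw [hJ u hu a hua', hJ (s * u) (mul_mem hs hu) b (hab.mul hua' (h.le hu))]
    constructor
    · intro h1 h2
      exact hs1 ((mul_mem_cancel_right h1).1 h2)
    · intro h1
      by_contra h2
      exact h1 (hmul s hs u hu hs1 h2)
  · -- trans
    rintro a b ⟨s, hs, ha⟩ ⟨t, ht, hb⟩
    exact ⟨t * s⁻¹, mul_mem ht (inv_mem hs), hb.mul (ha.inv (hP s hs)) (inv_mem (hP s hs))⟩
  · -- transN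
    intro a b ha hb
    obtain ⟨s, hs, hsa⟩ := M.trans i a
    obtain ⟨t, ht, htb⟩ := M.trans i b
    have hsa' : Mv M s i a := hsa
    have htb' : Mv M t i b := htb
    rw [hJ s hs a hsa'] at ha
    rw [hJ t ht b htb'] at hb
    exact ⟨t * s⁻¹, hmul t ht s⁻¹ (inv_mem hs) hb (fun h1 => ha (inv_mem_iff.1 h1)),
      htb'.mul (hsa'.inv (h.le hs)) (inv_mem (h.le hs))⟩
  · -- exN
    obtain ⟨s, hs, hs1⟩ := IId.Two.exists_not_mem hle hc
    obtain ⟨j, hj⟩ := exists_Mv (M := M) (h.le hs) i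
    exact ⟨j, fun h1 => hs1 ((hJ s hs j hj).1 h1)⟩

end Cfsg.Agent.Omega.NOThreeL.KTwo.Defs
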