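import Cfsg.Agent.Omega.NOThreeL.KTwo.Half
import Cfsg.Agent.Omega.NoFF.Basic
import Cfsg.Agent.MinSimple.Basic

/-!
# NO-3L box R, THEOREM K: the good elements

`Q : Hf M S₁ J`, `HALF M S₁ J`.

* **`Hf.good1`** : `1 ≠ x ∈ V` centralised by `S₁`, without coordinates in `J`, is good for `J`;
* **`Hf.good2`** : `x = r d ≠ 1`, `r ∈ V` with `e_{J'} r = 1`, coordinates on the lines, zero in `J` and not zero in
  `J'` (or `r = 1`), `d ∈ C_V(O²(P))` centralised by `S₁`: `x` is good for `J`.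
-/

set_option autoImplicit false
set_option linter.unusedSectionVars false

namespace Cfsg.Agent.Omega.NOThreeL.KTwo.Defs

open Subgroup Cfsg Cfsg.Agent.ZN Cfsg.Agent.Omega.MinPar
open Cfsg.Agent.Omega.FrameFF Cfsg.Agent.Omega.FFThm Cfsg.Agent.Lib.SL2Mat
open Cfsg.Agent.Omega.NatPair (ap ap_add ap_mul ap_one ap_inj ext2 ap_zero' ap_one' ap_inv_ap ap_ap_inv)
open Cfsg.Agent.Omega.HOne (cv_le conj_mem_zl conj_mem_cv)
open Cfsg.Agent.Omega.IId.Cv
open Cfsg.Agent.Omega.IId.Ns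
open Cfsg.Agent.Omega.NoFF.Basic (conj_conj mem_conj conj_le_centralizer)
open Cfsg.Agent.MinSimple.VModule (zc_comm zc_sq zc_le mem_zc le_normalizer_o2 normalizer_le_normalizer_zc zc_le_zl
  o2_isPGroup o2_le mem_normalizer_of_map_le)
open scoped Pointwise

universe u

variable {G : Type u} [Group G] {F : Type} [Field F]

attribute [local instance] aqComm

section gen

variable {S P : Subgroup G} {k : ℕ} {M : NatK F S P (zl S P) (cv S P) k} {J : Fin k → Prop}

/-- conjugates of good elements by elements normalising the `N_l`, `l ∈ J` -/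
theorem Good.conj {x : G} (hx : Good M J x) {b : G} (hb : ∀ l, J l → b ∈ normalizer (Nc M l : Set G)) :
    Good M J (b * x * b⁻¹) := by
  intro l hl g hg
  have hN : ∀ c : G, c ∈ normalizer (Nc M l : Set G) → MulAut.conj c • Nc M l = Nc M l := by
    intro c hc
    ext y
    rw [mem_conj]
    have h1 := mem_normalizer_iff.mp hc (c⁻¹ * y * c)
    rw [h1]
    simp [mul_assoc]
  have h1 : b⁻¹ * g * b ∈ centralizer ({x} : Set G) := by
    rw [mem_centralizer_singleton_iff] at hg ⊢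
    calc b⁻¹ * g * b * x = b⁻¹ * (g * (b * x * b⁻¹)) * b := by group
      _ = b⁻¹ * ((b * x * b⁻¹) * g) * b := by rw [hg]
      _ = x * (b⁻¹ * g * b) := by group
  have h2 := conj_le_centralizer (g := b) (hx l hl _ h1)
  rw [hN b (hb l hl), conj_conj] at h2
  have e : b * (b⁻¹ * g * b) = g * b := by group
  rw [e, ← conj_conj, hN b (hb l hl)] at h2
  exact h2

end gen

section half

variable [Finite G] [CharP F 2] (hG : IsCharacteristicTwoType G) (S : Sylow 2 G) {P : Subgroup G}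
  (h : IsParS (S : Subgroup G) P) {k : ℕ}
  {M : NatK F (S : Subgroup G) P (zl (S : Subgroup G) P) (cv (S : Subgroup G) P) k}
  {S₁ : Subgroup G} {J : Fin k → Prop} (Q : Hf M S₁ J)

include hG h in
/-- `C_G(x)` contains `S₁` and lifts of the `SL₂(F)_l`, `l ∈ J` ⟹ `x` is good -/
theorem good_of (hH : HALF M S₁ J) {x : G} (hxV : x ∈ zl (S : Subgroup G) P) (hx1 : x ≠ 1)
    (hS : ∀ s ∈ S₁, s * x = x * s) (hX : ∀ l, J l → ∀ B, ∃ y ∈ centralizer ({x} : Set G), Al M l y B) :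
    Good M J x := by
  have hsq : x ^ 2 = 1 := by
    rw [pow_two]
    exact sq_zl hG S h hxV
  have hchar : centralizer ({x} : Set G) ⊓ centralizer (o2 (centralizer ({x} : Set G)) : Set G) ≤
      o2 (centralizer ({x} : Set G)) := by
    have h1 := MinSimple.Basic.char2_normalizer hG (U := zpowers x)
      (IsPGroup.iff_card.2 ⟨1, by
        rw [Nat.card_zpowers]; exact (orderOf_eq_prime hsq hx1).trans (pow_one 2).symm⟩)
      (fun h0 => hx1 (zpowers_eq_bot.1 h0))
    rwa [MinSimple.Basic.normalizer_zpowers_eq hsq] at h1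
  have h1 := hH (centralizer ({x} : Set G)) (fun s hs => mem_centralizer_singleton_iff.2 (hS s hs)) hX hchar
  intro l hl g hg n hn
  rw [mem_centralizer_iff]
  intro m hm
  have hm' : m ∈ MulAut.conj g • Nc M l := hm
  rw [mem_conj] at hm'
  have h2 := h1 l hl hn
  have h3 := A_mem (P := centralizer ({x} : Set G)) hg (h1 l hl hm')
  have e : g * (g⁻¹ * m * g) * g⁻¹ = m := by group
  rw [e] at h3
  exact zc_comm _ _ h3 _ h2

include hG h in
/-- **good1** -/
theorem good1 [Finite F] (hF : 4 ≤ Nat.card F) (hH : HALF M S₁ J) {x : G} (hxV : x ∈ zl (S : Subgroup G) P)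
    (hx1 : x ≠ 1) (hS : ∀ s ∈ S₁, s * x = x * s) (h0 : ∀ l, J l → M.e x l = 0) : Good M J x := by
  refine good_of hG S h hH hxV hx1 hS fun l hl B => ?_
  obtain ⟨y, hy⟩ := exists_Al M l B
  refine ⟨y, mem_centralizer_singleton_iff.2 ?_, hy⟩
  exact mul_inv_eq_iff_eq_mul.1 (fix_ker hG S h l.pos hF hy hxV (h0 l hl))

/-! ### The diagonal elements -/

section dia

variable [Fintype F] [DecidableEq F]

include hG h in
/-- diagonal elements commute with `e_i` -/
theorem cA_eA {b : G} (hb : b ∈ P) {μ : Fin k → Fˣ}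
    (hA : ActsSL M.e (zl (S : Subgroup G) P) (cv (S : Subgroup G) P) b fun l => dg (μ l : F) (μ l).ne_zero)
    (i : Fin k) (a : ↥(zc (o2 P))) : cA hb (eA S M i a) = eA S M i (cA hb a) := by
  rw [eA_apply, eA_apply, map_prod]
  refine Finset.prod_congr rfl fun m _ => Subtype.ext ?_
  have hx := lf_spec S M i (dg (m : F) m.ne_zero)
  rw [cA_val, rh_val hG S h i.pos M hx, rh_val hG S h i.pos M hx, cA_val]
  have h1 := acts_mul M hb hx.1 hA hx.2
  have h2 := acts_mul M hx.1 hb hx.2 hA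
  have e : (fun l => dg (μ l : F) (μ l).ne_zero * one1 i (dg (m : F) m.ne_zero) l) =
      fun l => one1 i (dg (m : F) m.ne_zero) l * dg (μ l : F) (μ l).ne_zero := by
    funext l
    by_cases hl : l = i
    · subst hl
      rw [one1_same, dg_mul_dg, dg_mul_dg]
      congr 1
      exact mul_comm _ _
    · rw [one1_ne hl, one_mul, mul_one]
  rw [e] at h1
  have h3 := same_A hG S h i.pos M (mul_mem hb hx.1) (mul_mem hx.1 hb) h1 h2 a.2
  calc b * (lf S M i (dg (m : F) m.ne_zero) * a * (lf S M i (dg (m : F) m.ne_zero))⁻¹) * b⁻¹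
      = b * lf S M i (dg (m : F) m.ne_zero) * a * (b * lf S M i (dg (m : F) m.ne_zero))⁻¹ := by group
    _ = lf S M i (dg (m : F) m.ne_zero) * b * a * (lf S M i (dg (m : F) m.ne_zero) * b)⁻¹ := h3
    _ = _ := by group

include hG h in
theorem cA_eL {b : G} (hb : b ∈ P) {μ : Fin k → Fˣ}
    (hA : ActsSL M.e (zl (S : Subgroup G) P) (cv (S : Subgroup G) P) b fun l => dg (μ l : F) (μ l).ne_zero)
    (L : List (Fin k)) (a : ↥(zc (o2 P))) : cA hb (eL S M L a) = eL S M L (cA hb a) := by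
  induction L with
  | nil => rfl
  | cons j L ih => rw [eL_cons, eL_cons, cA_eA hG S h hb hA, ih]

include hG h in
/-- the second coordinates of an element of `V` centralised by `S₁` are zero -/
theorem Hf.coord_one {S₁ : Subgroup G} {J : Fin k → Prop} (Q : Hf M S₁ J) {x : G}
    (hx : x ∈ zl (S : Subgroup G) P) (hS : ∀ s ∈ S₁, s * x = x * s) (l : Fin k) : M.e x l 1 = 0 := by
  obtain ⟨t, ht, hA⟩ := Q.exists_unip S h l 1
  have h1 := hA.same hx
  rw [hS t ht, mul_inv_cancel_right, ap_up2] at h1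
  have h2 := congrFun h1 0
  simp at h2
  exact h2

include hG h in
/-- an element of `ker e_L` is determined by its coordinates in `L` -/
theorem eq_of_coord (hF : 4 ≤ Nat.card F) {L : List (Fin k)} {a b : ↥(zc (o2 P))} (hk : 0 < k) (ha : a ∈ VA S P)
    (hb : b ∈ VA S P) (ha1 : eL S M L a = 1) (hb1 : eL S M L b = 1)
    (he : ∀ l ∈ L, M.e (a : G) l = M.e (b : G) l) : a = b := by
  have h1 : eL S M L (a * b⁻¹) = a * b⁻¹ := by
    refine eL_of_coord hG S h hk M hF (mul_mem ha (inv_mem hb)) fun l hl => ?_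
    change M.e ((a : G) * (b : G)⁻¹) l = 0
    rw [e_div M ((mem_VA S).1 ha) ((mem_VA S).1 hb), Pi.sub_apply, he l hl, sub_self]
  rw [map_mul, map_inv, ha1, hb1, inv_one, mul_one] at h1
  exact mul_inv_eq_one.1 h1.symm

include hG h in
/-- **good2** -/
theorem good2 (hF : 4 ≤ Nat.card F) (Q : Hf M S₁ J) (hH : HALF M S₁ J) (r : ↥(zc (o2 P))) (d : G)
    (hrV : (r : G) ∈ zl (S : Subgroup G) P) (hrJ : ∀ l, J l → M.e (r : G) l = 0)
    (hr1 : ∀ l, M.e (r : G) l 1 = 0) (hre : eL S M (LJ fun l => ¬ J l) r = 1)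
    (hr : (∀ l, ¬ J l → M.e (r : G) l ≠ 0) ∨ r = 1) (hd : d ∈ cv (S : Subgroup G) P)
    (hdS : ∀ s ∈ S₁, s * d = d * s) (hx1 : (r : G) * d ≠ 1) : Good M J ((r : G) * d) := by
  classical
  have hk := Q.pos S
  have hdV : d ∈ zl (S : Subgroup G) P := cv_le _ _ hd
  have hd0 : M.e d = 0 := (M.ker d hdV).2 hd
  rcases hr with hr | rfl
  swap
  · have e : ((1 : ↥(zc (o2 P))) : G) * d = d := one_mul d
    rw [e] at hx1 ⊢
    exact good1 hG S h hF hH hdV hx1 hdS fun l _ => by rw [hd0]; rfl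
  obtain ⟨r₀, hr₀, hr₀1⟩ := Q.symm.exists_A0 hG S h hF
  obtain ⟨⟨hr₀V, hr₀S⟩, hr₀e⟩ := (mem_A0 S).1 hr₀
  have hr₀ne : ∀ l, ¬ J l → M.e (r₀ : G) l ≠ 0 := fun l hl => Q.symm.coord_ne hG S h hF hr₀ hr₀1 hl
  have hr₀c : ∀ s ∈ S₁, s * (r₀ : G) = r₀ * s := fun s hs => (mem_zc.1 hr₀S).2.1 s hs
  have hr₀l : ∀ l, M.e (r₀ : G) l 1 = 0 := Q.coord_one hG S h hr₀V hr₀c
  have hr₀J : ∀ l, J l → M.e (r₀ : G) l = 0 := by
    intro l hl
    have h1 := Q.symm.mem_NJ hG S h hF ((mem_VA S).2 hr₀V) hr₀e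
    let K : Subgroup G :=
      { carrier := {y | y ∈ zl (S : Subgroup G) P ∧ M.e y l = 0}
        one_mem' := ⟨one_mem _, by rw [e_one M]; rfl⟩
        mul_mem' := by
          rintro a b ⟨ha, ha1⟩ ⟨hb, hb1⟩
          exact ⟨mul_mem ha hb, by rw [M.mul _ ha _ hb, Pi.add_apply, ha1, hb1, add_zero]⟩
        inv_mem' := by
          rintro a ⟨ha, ha1⟩
          exact ⟨inv_mem ha, by rw [e_inv M ha, Pi.neg_apply, ha1, neg_zero]⟩ }
    have h2 : NJ M (fun i => ¬ J i) ≤ K := NJ_le fun m hm n hn =>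
      ⟨Nc_le_zl m hn, Nc_ne (fun e : l = m => hm (e ▸ hl)) hn⟩
    exact (h2 h1).2
  have hc0 : ∀ l, ¬ J l → M.e (r : G) l 0 ≠ 0 := by
    intro l hl h1
    exact hr l hl (ext2 h1 (hr1 l))
  have hc0' : ∀ l, ¬ J l → M.e (r₀ : G) l 0 ≠ 0 := by
    intro l hl h1
    exact hr₀ne l hl (ext2 h1 (hr₀l l))
  -- the diagonal element
  let μ : Fin k → Fˣ := fun l => if hl : J l then 1 else
    Units.mk0 (M.e (r : G) l 0 / M.e (r₀ : G) l 0) (div_ne_zero (hc0 l hl) (hc0' l hl))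
  obtain ⟨b, hb, hA⟩ := M.lift fun l => dg (μ l : F) (μ l).ne_zero
  have hμJ : ∀ l, J l → dg (μ l : F) (μ l).ne_zero = 1 := by
    intro l hl
    have e : μ l = 1 := dif_pos hl
    rw [e]
    exact ext_ent (by simp) (by simp) (by simp) (by simp)
  have hbr : cA hb r₀ = r := by
    refine eq_of_coord hG S h hF hk (cA_VA S hb ((mem_VA S).2 hr₀V)) ((mem_VA S).2 hrV) (L := LJ fun l => ¬ J l)
      (M := M) ?_ hre fun l hl => ?_
    · rw [← cA_eL hG S h hb hA, hr₀e, map_one]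
    · have hl' : ¬ J l := mem_LJ.1 hl
      rw [cA_val, hA.1 _ hr₀V]
      have e : (μ l : F) = M.e (r : G) l 0 / M.e (r₀ : G) l 0 := by
        have : μ l = Units.mk0 (M.e (r : G) l 0 / M.e (r₀ : G) l 0) (div_ne_zero (hc0 l hl') (hc0' l hl')) :=
          dif_neg hl'
        rw [this, Units.val_mk0]
      apply ext2
      · rw [ap_zero', hr₀l l]
        have e2 : ∀ (y : F) (hy : y ≠ 0), ent (dg y hy) 0 0 * M.e (r₀ : G) l 0 + ent (dg y hy) 0 1 * 0 =
            y * M.e (r₀ : G) l 0 := fun y hy => by simp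
        rw [e2, e]
        exact div_mul_cancel₀ _ (hc0' l hl')
      · rw [ap_one', hr₀l l, hr1 l]
        simp
  have hbx : b * ((r₀ : G) * d) * b⁻¹ = (r : G) * d := by
    have h1 := congrArg Subtype.val hbr
    rw [cA_val] at h1
    rw [← h1]
    have h2 := hA.2 d hd
    calc b * ((r₀ : G) * d) * b⁻¹ = b * r₀ * b⁻¹ * (b * d) * b⁻¹ := by group
      _ = b * r₀ * b⁻¹ * (d * b) * b⁻¹ := by rw [h2]
      _ = _ := by group
  have hx₀ : Good M J ((r₀ : G) * d) := by
    refine good1 hG S h hF hH (mul_mem hr₀V hdV) ?_ (fun s hs => ?_) fun l hl => ?_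
    · intro h1
      apply hx1
      rw [← hbx, h1]
      group
    · rw [← mul_assoc, hr₀c s hs, mul_assoc, hdS s hs, mul_assoc]
    · rw [M.mul _ hr₀V _ hdV, Pi.add_apply, hr₀J l hl, hd0, Pi.zero_apply, add_zero]
  rw [← hbx]
  refine hx₀.conj fun l hl => ?_
  have h1 : b ∈ centralizer (Nc M l : Set G) := by
    refine cent_Nc hG S h hk hF hb fun v hv => ?_
    rw [hA.1 v hv l]
    change ap (dg (μ l : F) (μ l).ne_zero) (M.e v l) = _
    rw [hμJ l hl, ap_one]
  exact Subgroup.centralizer_le_normalizer _ h1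

end dia

end half

end Cfsg.Agent.Omega.NOThreeL.KTwo.Defs
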