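import Cfsg.Agent.Omega.NOThreeL.KTwo.EndT
import Cfsg.Agent.Omega.NOThreeL.KTwo.EndX
import Cfsg.Agent.Omega.NOThreeL.KTwo.Exists
import Cfsg.Agent.Omega.NOThreeL.KTwo.Good
import Cfsg.Agent.Omega.NOThreeL.KTwo.Half
import Cfsg.Agent.Omega.NOThreeL.RTreeA

/-!
# NO-3L, `R ∩ (A)`, `k ≥ 2`: THEOREM K (#21065, helper162)

* `zl_le_centralizer` : `P ∈ P*(S)`, `V_P / C_{V_P}(O²(P))` a sum of `k ≥ 2` natural `SL₂(F)`-modules, `|F| > 2`,
  `C_Z(P) ≠ 1` implies `[V_P, U_H] = 1` for all local `H ≥ S`;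
* `thmK : RTreeA.ThmK` .
-/

set_option autoImplicit false
set_option linter.unusedSectionVars false

namespace Cfsg.Agent.Omega.NOThreeL.KTwo

open Subgroup Cfsg Cfsg.Agent.ZN Cfsg.Agent.Omega.MinPar
open Cfsg.Agent.Omega.FrameFF Cfsg.Agent.Omega.FFThm Cfsg.Agent.Lib.SL2Mat
open Cfsg.Agent.Omega.IId.Cv Cfsg.Agent.Omega.IId.Ns
open Cfsg.Agent.Omega.NOThreeL.AFour (Quad)
open Cfsg.Agent.Omega.NOThreeL.KTwo.Defs
open scoped Pointwise

universe u

variable {G : Type u} [Group G] {F : Type} [Field F]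

section main

variable [Finite G] [CharP F 2] (hG : IsCharacteristicTwoType G) (S : Sylow 2 G) {P : Subgroup G}
  (h : IsParS (S : Subgroup G) P) {k : ℕ}
  {M : NatK F (S : Subgroup G) P (zl (S : Subgroup G) P) (cv (S : Subgroup G) P) k}
  {H : Subgroup G}

section dec

variable [Fintype F] [DecidableEq F]

include hG h in
/-- `[N_l, U_H] = 1`, `l ∈ J`, for the halves `J` -/
theorem Nc_le_of (hF : 4 ≤ Nat.card F) (hH : IsLoc (S : Subgroup G) H)
    (hE : zc (S : Subgroup G) ⊓ centralizer (P : Set G) ≠ ⊥) {S₁ : Subgroup G} {J : Fin k → Prop} (Q : Hf M S₁ J)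
    {l : Fin k} (hl : J l) : Nc M l ≤ centralizer (zl (S : Subgroup G) H : Set G) := by
  have hq := quad_of_loc hG S h hH
  have hω := exists_omega hF
  have hHU : H ≤ normalizer (zl (S : Subgroup G) H : Set G) := le_normalizer_zl _ _
  have ho := o2_le_cent hG S hH
  have hhalf : HALF M S₁ J := half hG S h Q hF
  set E : Subgroup G := zc (S : Subgroup G) ⊓ centralizer (P : Set G) with hEdef
  have hEU : E ≤ zl (S : Subgroup G) H := inf_le_left.trans (MinSimple.VModule.zc_le_zl _ _)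
  have hED : E ≤ cv (S : Subgroup G) P := by
    refine le_inf (inf_le_left.trans (MinSimple.VModule.zc_le_zl _ _)) (inf_le_right.trans ?_)
    exact centralizer_le (MinSimple.VModule.oddGen_le P)
  have hES : ∀ d ∈ E, ∀ s ∈ (S : Subgroup G), s * d = d * s := fun d hd s hs =>
    (MinSimple.VModule.mem_zc.1 hd.1).2.1 s hs
  set n := (centralizer (Nc M l : Set G)).relIndex (zl (S : Subgroup G) H) with hn
  have hall : ∀ l', (centralizer (Nc M l' : Set G)).relIndex (zl (S : Subgroup G) H) = n := fun l' =>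
    relIndex_eq S h hq l' l
  rcases Nat.lt_trichotomy n 2 with h2 | h2 | h2
  · have h0 : n ≠ 0 := Subgroup.index_ne_zero_of_finite
      (H := (centralizer (Nc M l : Set G)).subgroupOf (zl (S : Subgroup G) H))
    have h1 : n = 1 := by omega
    exact NoFF.Basic.comm_symm (relIndex_eq_one.1 h1)
  · obtain ⟨X, hXU, hX, hx⟩ := exists_Y hG S h hq hF Q (fun l' => (hall l').trans h2) hEU hED hES hE
    refine cent_of_good S hq hH.le hHU ho hXU (fun l' _ => ?_) (fun x hxX hx1 => ?_) hl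
    · rw [hall l', h2]
      exact hX
    · obtain ⟨r, d, rfl, hd, hdS, hr, hr1, hr2, hr3, hr4⟩ := hx x hxX
      exact good2 hG S h hF Q hhalf r d hr hr1 hr2 hr3 hr4 hd hdS hx1
  · obtain ⟨X, hXU, hX, hx⟩ := exists_X hG S h hq hF Q (fun l' => by rw [hall l']; exact h2) hEU hED hE
    refine cent_of_good S hq hH.le hHU ho hXU (fun l' _ => ?_) (fun x hxX hx1 => ?_) hl
    · exact (relIndex_le hG S h hq hω l').trans_lt hX
    · obtain ⟨r, d, rfl, hd, hr, hr1, hr2, hr3, hr4⟩ := hx x hxX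
      exact good2 hG S h hF Q hhalf r d hr hr1 hr2 hr3 hr4 (hED hd) (fun s hs => hES d hd s (Q.le hs)) hx1

end dec

include hG h in
/-- **THEOREM K**: `k ≥ 2`, `|F| > 2`, `C_Z(P) ≠ 1` ⟹ `[V_P, U_H] = 1` for all local `H ≥ S` -/
theorem zl_le_centralizer [Finite F] (hF : 4 ≤ Nat.card F) (hk : 2 ≤ k)
    (M : NatK F (S : Subgroup G) P (zl (S : Subgroup G) P) (cv (S : Subgroup G) P) k)
    (hH : IsLoc (S : Subgroup G) H) (hE : zc (S : Subgroup G) ⊓ centralizer (P : Set G) ≠ ⊥) :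
    zl (S : Subgroup G) P ≤ centralizer (zl (S : Subgroup G) H : Set G) := by
  classical
  let _ : Fintype F := Fintype.ofFinite F
  refine zl_le_of hG S h (quad_of_loc hG S h hH) (M := M) (exists_omega hF) (by omega) fun l => ?_
  obtain ⟨S₁, J, Q, hl⟩ := exists_hf S h hk M l
  exact Nc_le_of hG S h hF hH hE Q hl

end main

/-- **THEOREM K** in the form of the tree of box `R ∩ (A)` -/
theorem thmK : RTreeA.ThmK.{u} := by
  intro G _ _ hG S P H h hH hE F _ _ _ k hk hF M
  have h4 : 4 ≤ Nat.card F := by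
    have := Fintype.ofFinite F
    have h1 : 2 ∣ Nat.card F := by
      rw [Nat.card_eq_fintype_card, ← CharP.cast_eq_zero_iff F 2]
      exact Nat.cast_card_eq_zero F
    omega
  exact zl_le_centralizer hG S h h4 hk M.toNatK hH hE

end Cfsg.Agent.Omega.NOThreeL.KTwo
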