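import Cfsg.Agent.Omega.NOThreeL.RA.Base

/-!
# NO-3L, `R ∩ (A)`, `k ≥ 2`: THEOREM K (#21065, helper162), the end

* `end_of` : `U ⊴ H`, `M ≤ H` an abelian 2-group, `X ≤ U` with `|U : C_U(M)| < |X|` such that the conjugates of `M`
  under `C(x)`, `1 ≠ x ∈ X`, commute with `M`; `O₂(H)` centralises `U`.  Then `M` centralises `U`.
-/

set_option autoImplicit false

namespace Cfsg.Agent.Omega.NOThreeL.KTwo

open Subgroup Cfsg
open Cfsg.Agent.ZN (o2)
open Cfsg.Agent.Omega.NoFF.Basic (conj_conj mem_conj conj_le_iff conj_le_centralizer comm_symm)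
open scoped Pointwise

universe u

variable {G : Type u} [Group G]

/-- pigeonhole: `|U : C_U(A)| < |X|`, `X ≤ U`: some `1 ≠ x ∈ X` is centralised by `A` -/
theorem exists_cent [Finite G] {U A X : Subgroup G} (hX : X ≤ U)
    (hlt : (centralizer (A : Set G)).relIndex U < Nat.card X) :
    ∃ x ∈ X, x ≠ 1 ∧ A ≤ centralizer ({x} : Set G) := by
  by_contra hcon
  push Not at hcon
  have h1 : X ⊓ centralizer (A : Set G) = ⊥ := by
    rw [eq_bot_iff]
    intro x hx
    obtain ⟨hx1, hx2⟩ := mem_inf.1 hx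
    rw [mem_bot]
    by_contra hne
    refine hcon x hx1 hne fun a ha => ?_
    rw [mem_centralizer_singleton_iff]
    exact mem_centralizer_iff.1 hx2 a ha
  have h2 : (centralizer (A : Set G)).relIndex X = Nat.card X := by
    have h3 : (centralizer (A : Set G)).relIndex X = (X ⊓ centralizer (A : Set G)).relIndex X := by
      rw [inf_relIndex_left]
    rw [h3, h1, relIndex_bot_left]
  have h3 : (centralizer (A : Set G)).relIndex X ≤ (centralizer (A : Set G)).relIndex U :=
    relIndex_le_of_le_right hX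
      (Subgroup.index_ne_zero_of_finite (H := (centralizer (A : Set G)).subgroupOf U))
  omega

/-- **the end of THEOREM K** -/
theorem end_of [Finite G] {H U M X : Subgroup G} (hM : M ≤ H) (hM2 : IsPGroup 2 M)
    (hHU : H ≤ normalizer (U : Set G)) (hX : X ≤ U)
    (hlt : (centralizer (M : Set G)).relIndex U < Nat.card X)
    (hc : ∀ x ∈ X, x ≠ 1 → ∀ g ∈ centralizer ({x} : Set G), ∀ g' ∈ centralizer ({x} : Set G),
      MulAut.conj g • M ≤ centralizer ((MulAut.conj g' • M : Subgroup G) : Set G))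
    (ho : o2 H ≤ centralizer (U : Set G)) : M ≤ centralizer (U : Set G) := by
  have : Fact (Nat.Prime 2) := ⟨Nat.prime_two⟩
  refine (RA.le_o2_of_pairs hM fun h hh => ?_).trans ho
  have hUh : MulAut.conj h • U = U := NOThreeL.Pair.conj_eq_of_mem (hHU hh)
  -- `|U : C_U(M^h)| = |U : C_U(M)|`
  have h1 : (centralizer ((MulAut.conj h • M : Subgroup G) : Set G)).relIndex U =
      (centralizer (M : Set G)).relIndex U := by
    have h2 := Subgroup.relIndex_pointwise_smul (MulAut.conj h) (centralizer (M : Set G)) U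
    rw [hUh] at h2
    rw [← h2]
    congr 1
    ext x
    rw [mem_conj, mem_centralizer_iff, mem_centralizer_iff]
    constructor
    · intro h3 y hy
      have h4 := h3 (h * y * h⁻¹) (by
        change h * y * h⁻¹ ∈ MulAut.conj h • M
        rw [mem_conj]
        have e1 : h⁻¹ * (h * y * h⁻¹) * h = y := by group
        rwa [e1])
      calc y * (h⁻¹ * x * h) = h⁻¹ * ((h * y * h⁻¹) * x) * h := by group
        _ = h⁻¹ * (x * (h * y * h⁻¹)) * h := by rw [h4]
        _ = h⁻¹ * x * h * y := by group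
    · intro h3 y hy
      have hy' : y ∈ MulAut.conj h • M := hy
      rw [mem_conj] at hy'
      have h4 := h3 _ hy'
      calc y * x = h * ((h⁻¹ * y * h) * (h⁻¹ * x * h)) * h⁻¹ := by group
        _ = h * ((h⁻¹ * x * h) * (h⁻¹ * y * h)) * h⁻¹ := by rw [h4]
        _ = x * y := by group
  rw [← h1] at hlt
  obtain ⟨x, hx, hx1, hA⟩ := exists_cent hX hlt
  set A : Subgroup G := MulAut.conj h • M with hAdef
  -- `K = ⟨M^A⟩` is an abelian 2-group normalised by `A`
  let K : Subgroup G := ⨆ a ∈ A, MulAut.conj a • M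
  have hK : K ≤ centralizer (K : Set G) := iSup₂_le fun a ha => comm_symm (iSup₂_le fun b hb =>
    comm_symm (hc x hx hx1 a (hA ha) b (hA hb)))
  have hMa : ∀ a ∈ A, MulAut.conj a • M ≤ K := fun a ha =>
    le_iSup₂_of_le (f := fun a (_ : a ∈ A) => MulAut.conj a • M) a ha le_rfl
  have hMK : M ≤ K := by
    have h2 := hMa 1 (one_mem A)
    rwa [map_one, one_smul] at h2
  have hA2 : IsPGroup 2 A := hM2.map (MulAut.conj h).toMonoidHom
  have hK2 : IsPGroup 2 K := by
    let K' : Subgroup G :=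
      { carrier := {x | x ∈ K ∧ ∃ n : ℕ, x ^ 2 ^ n = 1}
        one_mem' := ⟨one_mem _, 0, one_pow _⟩
        mul_mem' := by
          rintro a b ⟨ha, n, hn⟩ ⟨hb, m, hm⟩
          refine ⟨mul_mem ha hb, n + m, ?_⟩
          have hab : Commute a b := (mem_centralizer_iff.1 (hK ha) b hb).symm
          rw [hab.mul_pow, pow_add, pow_mul, hn, one_pow, one_mul, mul_comm (2 ^ n) (2 ^ m), pow_mul, hm, one_pow]
        inv_mem' := by
          rintro a ⟨ha, n, hn⟩
          exact ⟨inv_mem ha, n, by rw [inv_pow, hn, inv_one]⟩ }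
    have h2 : K ≤ K' := iSup₂_le fun a ha y hy => by
      refine ⟨hMa a ha hy, ?_⟩
      have h3 : IsPGroup 2 (MulAut.conj a • M : Subgroup G) := hM2.map (MulAut.conj a).toMonoidHom
      obtain ⟨n, hn⟩ := h3 ⟨y, hy⟩
      exact ⟨n, congrArg Subtype.val hn⟩
    intro y
    obtain ⟨n, hn⟩ := (h2 y.2).2
    exact ⟨n, Subtype.ext hn⟩
  have hAK : A ≤ normalizer (K : Set G) := NOThreeL.le_normalizer_of fun a ha y hy => by
    have h2 : K ≤ K.comap (MulAut.conj a).toMonoidHom := iSup₂_le fun b hb z hz => by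
      refine hMa (a * b) (mul_mem ha hb) ?_
      change a * z * a⁻¹ ∈ _
      rw [mem_conj] at hz ⊢
      have e1 : (a * b)⁻¹ * (a * z * a⁻¹) * (a * b) = b⁻¹ * z * b := by group
      rwa [e1]
    exact h2 hy
  have h2 := IsPGroup.to_sup_of_normal_right' hA2 hK2 hAK
  exact h2.to_le (sup_le (hMK.trans le_sup_right) le_sup_left)

end Cfsg.Agent.Omega.NOThreeL.KTwo
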