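import Cfsg.Agent.Omega.NOThreeL.KTwo.EndY

/-!
# NO-3L, `R ∩ (A)`, `k ≥ 2`: THEOREM K (#21065, helper162), (3): from good elements to `[N_l, U] = 1`

* `cent_of_good` : `X ≤ U`, `|U : C_U(N_l)| < |X|`, every `1 ≠ x ∈ X` good for `J` implies `[N_l, U] = 1`, `l ∈ J`;
* `zl_le_of` : all `[N_l, U] = 1` implies `[V, U] = 1`;
* `quad_of_loc` : `Quad S P (zl S H)` for all local `H`.
-/

set_option autoImplicit false
set_option linter.unusedSectionVars false

namespace Cfsg.Agent.Omega.NOThreeL.KTwo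

open Subgroup Cfsg Cfsg.Agent.ZN Cfsg.Agent.Omega.MinPar
open Cfsg.Agent.Omega.FrameFF Cfsg.Agent.Omega.FFThm Cfsg.Agent.Lib.SL2Mat
open Cfsg.Agent.Omega.NatPair (ap ap_add ap_mul ap_one ap_inj ext2 ap_zero' ap_one' ap_inv_ap ap_ap_inv)
open Cfsg.Agent.Omega.HOne (cv_le conj_mem_zl conj_mem_cv)
open Cfsg.Agent.Omega.IId.Cv Cfsg.Agent.Omega.IId.Ns
open Cfsg.Agent.Omega.NOThreeL.AFour (Quad)
open Cfsg.Agent.Omega.NOThreeL.KTwo.Defs
open Cfsg.Agent.Omega.NoFF.Basic (conj_conj conj_le_centralizer comm_symm)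
open scoped Pointwise

universe u

variable {G : Type u} [Group G] {F : Type} [Field F]

section main

variable [Finite G] [CharP F 2] (hG : IsCharacteristicTwoType G) (S : Sylow 2 G) {P : Subgroup G}
  (h : IsParS (S : Subgroup G) P) {k : ℕ}
  {M : NatK F (S : Subgroup G) P (zl (S : Subgroup G) P) (cv (S : Subgroup G) P) k}
  {U : Subgroup G} (hq : Quad (S : Subgroup G) P U)

include hq in
/-- **from good elements to `[N_l, U] = 1`** -/
theorem cent_of_good {J : Fin k → Prop} {H X : Subgroup G} (hSH : (S : Subgroup G) ≤ H)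
    (hHU : H ≤ normalizer (U : Set G)) (ho : o2 H ≤ centralizer (U : Set G)) (hX : X ≤ U)
    (hlt : ∀ l, J l → (centralizer (Nc M l : Set G)).relIndex U < Nat.card X)
    (hgood : ∀ x ∈ X, x ≠ 1 → Good M J x) {l : Fin k} (hl : J l) : Nc M l ≤ centralizer (U : Set G) := by
  have hNS : Nc M l ≤ (S : Subgroup G) := (Sd.Nc_le M l).trans hq.VS
  refine end_of (hNS.trans hSH) (S.isPGroup'.to_le hNS) hHU hX (hlt l hl) (fun x hx hx1 g hg g' hg' => ?_) ho
  have h1 := hgood x hx hx1 l hl (g⁻¹ * g') (mul_mem (inv_mem hg) hg')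
  have h2 := conj_le_centralizer (g := g) h1
  rwa [conj_conj, mul_inv_cancel_left] at h2

include hG h hq in
/-- `[N_l, U] = 1` for all `l` implies `[V, U] = 1` -/
theorem zl_le_of (hω : ∃ ω : F, ω ≠ 0 ∧ ω ≠ 1) (hk : 0 < k)
    (hc : ∀ l, Nc M l ≤ centralizer (U : Set G)) : zl (S : Subgroup G) P ≤ centralizer (U : Set G) := by
  refine comm_symm fun u hu => mem_centralizer_iff.2 fun v hv => ?_
  have h1 : u ∈ kern M := by
    refine ⟨hq.UP hu, fun v hv => ?_⟩
    funext l
    have h2 : bt M u l = 0 := (mem_cent_iff hG S h hq hω hu).1 (comm_symm (hc l) hu)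
    rw [(U_acts hG S h hq hk hu (M := M)).1 v hv l]
    change ap (up (bt M u l)) (M.e v l) = _
    rw [h2, up_zero, ap_one]
  exact (comm_of_quot hG S h M hk (hq.US hu) h1 v hv).symm

end main

section loc

variable [Finite G] (hG : IsCharacteristicTwoType G) (S : Sylow 2 G) {P H : Subgroup G}

include hG in
theorem quad_of_loc (h : IsParS (S : Subgroup G) P) (hH : IsLoc (S : Subgroup G) H) :
    Quad (S : Subgroup G) P (zl (S : Subgroup G) H) where
  SP := h.le
  VS := (h.isLoc.zl_le S hG).trans ((MinSimple.VModule.zc_le _).trans (h.isLoc.o2_le S))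
  US := (hH.zl_le S hG).trans ((MinSimple.VModule.zc_le _).trans (hH.o2_le S))
  SU := hH.le.trans (le_normalizer_zl _ _)
  ab u hu _ hv := mem_centralizer_iff.1 ((NOThreeL.Pair.zl_abel hG S hH).1 hv) u hu
  sq u hu := by
    rw [← pow_two]
    exact (NOThreeL.Pair.zl_abel hG S hH).2 u hu

include hG in
theorem o2_le_cent (hH : IsLoc (S : Subgroup G) H) : o2 H ≤ centralizer (zl (S : Subgroup G) H : Set G) :=
  comm_symm fun _ hu => mem_centralizer_iff.2 fun x hx => (MinSimple.VModule.mem_zc.1 (hH.zl_le S hG hu)).2.1 x hx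

end loc

end Cfsg.Agent.Omega.NOThreeL.KTwo
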