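import Cfsg.Agent.Omega.NOThreeL.KTwo.Avg
import Cfsg.Agent.Omega.NOThreeL.KTwo.EndK
import Cfsg.Agent.Omega.NOThreeL.RStr.Act
import Cfsg.Agent.Omega.IId.Ns.Side

/-!
# NO-3L, `R ∩ (A)`, `k ≥ 2`: THEOREM K (#21065, helper162), (3): the action of `U` on the blocks

`hq : Quad S P U` (`U ≤ S` elementary abelian, normal in `S`). `M : NatK F S P (zl S P) (cv S P) k`.

* `U_acts` : `u ∈ U` acts as `fun i => up (b i)` and centralises `cv S P`; `bt M u = b`;
* `mem_cent_iff` : `u` centralises `N_l` iff `bt M u l = 0`;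
* `relIndex_le` : `|U : C_U(N_l)| ≤ |F|`; `relIndex_eq` : it does not depend on `l`;
* `exists_two` : `|U : C_U(N_l)| > 2` implies that two different nonzero `bt M u l` occur.
-/

set_option autoImplicit false
set_option linter.unusedSectionVars false

namespace Cfsg.Agent.Omega.NOThreeL.KTwo

open Subgroup Cfsg Cfsg.Agent.ZN Cfsg.Agent.Omega.MinPar
open Cfsg.Agent.Omega.FrameFF Cfsg.Agent.Omega.FFThm Cfsg.Agent.Lib.SL2Mat
open Cfsg.Agent.Omega.NatPair (ap ap_add ap_mul ap_one ap_inj ext2 ap_zero' ap_one' ap_inv_ap ap_ap_inv)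
open Cfsg.Agent.Omega.HOne (cv_le conj_mem_zl conj_mem_cv)
open Cfsg.Agent.Omega.IId.Cv Cfsg.Agent.Omega.IId.Ns
open Cfsg.Agent.Omega.NOThreeL.AFour (Quad)
open Cfsg.Agent.Omega.NOThreeL.KTwo.Defs
open Cfsg.Agent.MinSimple.VModule (zc_comm zc_sq zc_le mem_zc le_normalizer_o2 normalizer_le_normalizer_zc zc_le_zl
  o2_isPGroup o2_le)
open scoped Pointwise

universe u

variable {G : Type u} [Group G] {F : Type} [Field F]

section gen

variable {S P : Subgroup G} {k : ℕ} {M : NatK F S P (zl S P) (cv S P) k}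

theorem up_inj {b c : F} (h : ap (up b) ![0, 1] = ap (up c) ![0, 1]) : b = c := by
  have h1 := congrFun h 0
  rw [ap_zero', ap_zero'] at h1
  simpa using h1

theorem acts_up_unique {u : G} {b c : Fin k → F}
    (hb : ∀ v ∈ zl S P, ∀ i, M.e (u * v * u⁻¹) i = ap (up (b i)) (M.e v i))
    (hc : ∀ v ∈ zl S P, ∀ i, M.e (u * v * u⁻¹) i = ap (up (c i)) (M.e v i)) : b = c := by
  funext i
  obtain ⟨v, hv, h1, -⟩ := exists_single (M := M) i ![0, 1]
  apply up_inj
  rw [← h1, ← hb v hv i, ← hc v hv i]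

open Classical in
/-- the parameters of `u` -/
noncomputable def bt (M : NatK F S P (zl S P) (cv S P) k) (u : G) : Fin k → F :=
  if h : ∃ b : Fin k → F, ∀ v ∈ zl S P, ∀ i, M.e (u * v * u⁻¹) i = ap (up (b i)) (M.e v i) then h.choose else 0

theorem bt_eq {u : G} {b : Fin k → F}
    (hb : ∀ v ∈ zl S P, ∀ i, M.e (u * v * u⁻¹) i = ap (up (b i)) (M.e v i)) : bt M u = b := by
  have h : ∃ b : Fin k → F, ∀ v ∈ zl S P, ∀ i, M.e (u * v * u⁻¹) i = ap (up (b i)) (M.e v i) := ⟨b, hb⟩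
  rw [bt, dif_pos h]
  exact acts_up_unique h.choose_spec hb

/-- elements mapping the `i`-th block to the `j`-th -/
theorem Nc_mvK {i j : Fin k} {g : G} (hg : g ∈ P) (hm : Mv M g i j) {n : G} (hn : n ∈ Nc M i) :
    g * n * g⁻¹ ∈ Nc M j := by
  induction hn using closure_induction with
  | mem x hx =>
    obtain ⟨y, hy, v, hv, rfl⟩ := hx
    obtain ⟨B, hB⟩ := exists_of_Fc hy
    obtain ⟨B', hB'⟩ := conj_Al hg hm hB
    have e : g * (y * v * y⁻¹ * v⁻¹) * g⁻¹ =
      (g * y * g⁻¹) * (g * v * g⁻¹) * (g * y * g⁻¹)⁻¹ * (g * v * g⁻¹)⁻¹ := by group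
    rw [e]
    exact Sd.comm_mem_Nc M hB'.mem_Fc (conj_mem_zl hg hv)
  | one => rw [mul_one, mul_inv_cancel]; exact one_mem _
  | mul x y _ _ hx hy =>
    have e : g * (x * y) * g⁻¹ = (g * x * g⁻¹) * (g * y * g⁻¹) := by group
    rw [e]; exact mul_mem hx hy
  | inv x _ hx =>
    have e : g * x⁻¹ * g⁻¹ = (g * x * g⁻¹)⁻¹ := by group
    rw [e]; exact inv_mem hx

theorem conj_Nc {i j : Fin k} {g : G} (hg : g ∈ P) (hm : Mv M g i j) : MulAut.conj g • Nc M i = Nc M j := by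
  apply le_antisymm
  · rintro _ ⟨n, hn, rfl⟩
    exact Nc_mvK hg hm hn
  · intro n hn
    rw [NoFF.Basic.mem_conj]
    have h1 := Nc_mvK (inv_mem hg) (hm.inv hg) hn
    rwa [inv_inv] at h1

end gen

section main

variable [Finite G] [CharP F 2] (hG : IsCharacteristicTwoType G) (S : Sylow 2 G) {P : Subgroup G}
  (h : IsParS (S : Subgroup G) P) {k : ℕ}
  {M : NatK F (S : Subgroup G) P (zl (S : Subgroup G) P) (cv (S : Subgroup G) P) k}
  {U : Subgroup G} (hq : Quad (S : Subgroup G) P U)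

include hG h hq in
/-- `u ∈ U` acts as `fun i => up (bt M u i)` and centralises `cv S P` -/
theorem U_acts (hk : 0 < k) {u : G} (hu : u ∈ U) :
    ActsSL M.e (zl (S : Subgroup G) P) (cv (S : Subgroup G) P) u fun i => up (bt M u i) := by
  obtain ⟨b, hb⟩ := RStr.exists_up hq M hu
  rw [bt_eq hb]
  refine ⟨hb, fun d hd => ?_⟩
  obtain ⟨t, ht, htb⟩ := M.unip b
  have h1 : t⁻¹ * u ∈ (S : Subgroup G) := mul_mem (inv_mem ht) (hq.US hu)
  have h2 : t⁻¹ * u ∈ kern M := by
    refine ⟨h.le h1, fun v hv => ?_⟩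
    have h3 := acts_inv M (h.le ht) htb
    have e : t⁻¹ * u * v * (t⁻¹ * u)⁻¹ = t⁻¹ * (u * v * u⁻¹) * t⁻¹⁻¹ := by group
    funext i
    rw [e, h3.1 _ (conj_mem_zl (h.le (hq.US hu)) hv) i, hb v hv i, ap_inv_ap]
  have h3 := comm_of_quot hG S h M hk h1 h2 d (cv_le _ _ hd)
  have h4 := htb.2 d hd
  calc u * d = t * (t⁻¹ * u * d) := by group
    _ = t * (d * (t⁻¹ * u)) := by rw [h3]
    _ = (t * d) * (t⁻¹ * u) := by group
    _ = d * u := by rw [h4]; group

include hG h hq in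
theorem bt_mul (hk : 0 < k) {u w : G} (hu : u ∈ U) (hw : w ∈ U) : bt M (u * w) = bt M u + bt M w := by
  apply bt_eq
  intro v hv i
  have h1 := acts_mul M (hq.UP hu) (hq.UP hw) (U_acts hG S h hq hk hu) (U_acts hG S h hq hk hw)
  rw [h1.1 v hv i]
  congr 1
  exact up_mul _ _

/-- `u` centralises `N_l` iff its `l`-th parameter is `0` -/
theorem mem_cent_iff (hG : IsCharacteristicTwoType G) (S : Sylow 2 G) {P : Subgroup G}
    (h : IsParS (S : Subgroup G) P) {k : ℕ}
    {M : NatK F (S : Subgroup G) P (zl (S : Subgroup G) P) (cv (S : Subgroup G) P) k}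
    {U : Subgroup G} (hq : Quad (S : Subgroup G) P U) (hω : ∃ ω : F, ω ≠ 0 ∧ ω ≠ 1) {l : Fin k} {u : G}
    (hu : u ∈ U) : u ∈ centralizer (Nc M l : Set G) ↔ bt M u l = 0 := by
  have hk : 0 < k := l.pos
  have h1 := (U_acts hG S h hq hk hu (M := M)).1
  constructor
  · intro h2
    obtain ⟨n, hn, he⟩ := Sd.Nc_surj M l ![0, 1]
    have h3 := h1 n (Sd.Nc_le M l hn) l
    have h4 : u * n * u⁻¹ = n := by
      rw [← mem_centralizer_iff.1 h2 n hn, mul_inv_cancel_right]
    rw [h4, he] at h3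
    apply up_inj
    rw [up_zero, ap_one]
    exact h3.symm
  · intro h2
    refine mem_centralizer_iff.2 fun n hn => (Sd.comm_Nc_of hG S h M hω (hq.UP hu) (fun v hv => ?_) n hn).symm
    rw [h1 v hv l]
    change ap (up (bt M u l)) (M.e v l) = _
    rw [h2, up_zero, ap_one]

section

variable (hω : ∃ ω : F, ω ≠ 0 ∧ ω ≠ 1)

include hG h hq hω

theorem exists_hom (l : Fin k) : ∃ φ : ↥U →* Multiplicative F, (∀ u : ↥U, φ u = Multiplicative.ofAdd (bt M (u : G) l)) ∧
    φ.ker = (centralizer (Nc M l : Set G)).subgroupOf U := by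
  have hk : 0 < k := l.pos
  let φ : ↥U →* Multiplicative F := MonoidHom.mk' (fun u => Multiplicative.ofAdd (bt M (u : G) l)) fun a b => by
    change Multiplicative.ofAdd (bt M ((a : G) * b) l) = _
    rw [bt_mul hG S h hq hk a.2 b.2]
    rfl
  refine ⟨φ, fun _ => rfl, ?_⟩
  ext ⟨u, hu⟩
  rw [MonoidHom.mem_ker, mem_subgroupOf]
  change Multiplicative.ofAdd (bt M u l) = Multiplicative.ofAdd 0 ↔ _
  rw [Multiplicative.ofAdd.injective.eq_iff]
  exact (mem_cent_iff hG S h hq hω hu).symm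

theorem relIndex_le [Finite F] (l : Fin k) : (centralizer (Nc M l : Set G)).relIndex U ≤ Nat.card F := by
  obtain ⟨φ, -, h2⟩ := exists_hom hG S h (M := M) hq hω l
  change ((centralizer (Nc M l : Set G)).subgroupOf U).index ≤ _
  rw [← h2, index_ker]
  exact Nat.card_le_card_of_injective (Subtype.val : φ.range → Multiplicative F) Subtype.val_injective

theorem exists_two {l : Fin k} (h2 : 2 < (centralizer (Nc M l : Set G)).relIndex U) :
    ∃ u ∈ U, ∃ w ∈ U, bt M u l ≠ 0 ∧ bt M w l ≠ 0 ∧ bt M u l ≠ bt M w l := by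
  classical
  by_contra hcon
  push Not at hcon
  obtain ⟨φ, h3, h4⟩ := exists_hom hG S h (M := M) hq hω l
  change 2 < ((centralizer (Nc M l : Set G)).subgroupOf U).index at h2
  rw [← h4, index_ker] at h2
  have h5 : Function.Injective (fun x : φ.range => decide ((x : Multiplicative F) = 1)) := by
    rintro ⟨_, ⟨u, rfl⟩⟩ ⟨_, ⟨w, rfl⟩⟩ huw
    have huw' : (φ u = 1 ↔ φ w = 1) := by
      have : decide (φ u = 1) = decide (φ w = 1) := huw
      simpa using this
    apply Subtype.ext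
    change φ u = φ w
    by_cases hu : φ u = 1
    · rw [hu, huw'.1 hu]
    · have hw : φ w ≠ 1 := fun h => hu (huw'.2 h)
      have hu' : bt M (u : G) l ≠ 0 := fun h0 => hu (by rw [h3, h0]; rfl)
      have hw' : bt M (w : G) l ≠ 0 := fun h0 => hw (by rw [h3, h0]; rfl)
      rw [h3, h3, hcon u u.2 w w.2 hu' hw']
  have h6 := Nat.card_le_card_of_injective _ h5
  rw [Nat.card_eq_fintype_card (α := Bool), Fintype.card_bool] at h6
  omega

/-- `|U : C_U(N_l)| ≤ 2`: all nonzero parameters are equal -/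
theorem eq_of_le_two {l : Fin k} (h2 : (centralizer (Nc M l : Set G)).relIndex U ≤ 2) {u w : G} (hu : u ∈ U)
    (hw : w ∈ U) (hu0 : bt M u l ≠ 0) (hw0 : bt M w l ≠ 0) : bt M u l = bt M w l := by
  by_contra hne
  obtain ⟨φ, h3, h4⟩ := exists_hom hG S h (M := M) hq hω l
  change ((centralizer (Nc M l : Set G)).subgroupOf U).index ≤ 2 at h2
  rw [← h4, index_ker] at h2
  have hfin : Finite φ.range := Set.finite_range φ |>.to_subtype
  have h5 : Function.Injective (fun x : Fin 3 => (![1, ⟨φ ⟨u, hu⟩, ⟨_, rfl⟩⟩, ⟨φ ⟨w, hw⟩, ⟨_, rfl⟩⟩] : Fin 3 → φ.range) x) := by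
    have a1 : φ ⟨u, hu⟩ ≠ 1 := fun h0 => hu0 (by rw [h3] at h0; exact h0)
    have a2 : φ ⟨w, hw⟩ ≠ 1 := fun h0 => hw0 (by rw [h3] at h0; exact h0)
    have a3 : φ ⟨u, hu⟩ ≠ φ ⟨w, hw⟩ := fun h0 => hne (by rw [h3, h3] at h0; exact h0)
    intro x y hxy
    have hxy' := congrArg Subtype.val hxy
    fin_cases x <;> fin_cases y <;> simp at hxy' ⊢
    · exact a1 hxy'.symm
    · exact a2 hxy'.symm
    · exact a1 hxy'
    · exact a3 hxy'
    · exact a2 hxy'
    · exact a3 hxy'.symm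
  have h6 := Nat.card_le_card_of_injective _ h5
  rw [Nat.card_eq_fintype_card (α := Fin 3), Fintype.card_fin] at h6
  omega

end

include h hq in
/-- `|U : C_U(N_l)|` does not depend on `l` -/
theorem relIndex_eq (l l' : Fin k) : (centralizer (Nc M l : Set G)).relIndex U =
    (centralizer (Nc M l' : Set G)).relIndex U := by
  obtain ⟨t, ht, hm⟩ := M.trans l l'
  have h1 : MulAut.conj t • U = U := NOThreeL.Pair.conj_eq_of_mem (hq.SU ht)
  have h2 : MulAut.conj t • centralizer (Nc M l : Set G) = centralizer (Nc M l' : Set G) := by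
    rw [← conj_Nc (h.le ht) hm]
    ext x
    rw [NoFF.Basic.mem_conj, mem_centralizer_iff, mem_centralizer_iff]
    constructor
    · intro h3 y hy
      have hy' : y ∈ MulAut.conj t • Nc M l := hy
      rw [NoFF.Basic.mem_conj] at hy'
      have h4 := h3 _ hy'
      calc y * x = t * ((t⁻¹ * y * t) * (t⁻¹ * x * t)) * t⁻¹ := by group
        _ = t * ((t⁻¹ * x * t) * (t⁻¹ * y * t)) * t⁻¹ := by rw [h4]
        _ = x * y := by group
    · intro h3 y hy
      have h4 := h3 (t * y * t⁻¹) ⟨y, hy, rfl⟩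
      calc y * (t⁻¹ * x * t) = t⁻¹ * ((t * y * t⁻¹) * x) * t := by group
        _ = t⁻¹ * (x * (t * y * t⁻¹)) * t := by rw [h4]
        _ = t⁻¹ * x * t * y := by group
  rw [← h2]
  conv_rhs => rw [← h1]
  exact (Subgroup.relIndex_pointwise_smul (MulAut.conj t) _ _).symm

end main

end Cfsg.Agent.Omega.NOThreeL.KTwo
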