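import Cfsg.Agent.Omega.NOThreeL.KTwo.EndU
import Cfsg.Agent.Omega.NOThreeL.AdjTransv

/-!
# NO-3L, `R ∩ (A)`, `k ≥ 2`: THEOREM K (#21065, helper162), (3): the case `|T| = 2`

`|U : C_U(N_l)| = 2` for all `l`; `u_l ∈ U` moves `N_l`; `Kap l n = [u_l, n]` (`n ∈ N_l`); `Y = ∏_{l ∉ J} [u_l, N_l] ≤ U`
is normalised by `S₁`, `Y ∩ C_V(O²(P)) = 1`; `1 ≠ y₀ ∈ Y` centralised by `S₁`; `X = ⟨y₀⟩ E`.

* `exists_Y` .
-/

set_option autoImplicit false
set_option linter.unusedSectionVars false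

namespace Cfsg.Agent.Omega.NOThreeL.KTwo

open Subgroup Cfsg Cfsg.Agent.ZN Cfsg.Agent.Omega.MinPar
open Cfsg.Agent.Omega.FrameFF Cfsg.Agent.Omega.FFThm Cfsg.Agent.Lib.SL2Mat
open Cfsg.Agent.Omega.NatPair (ap ap_add ap_mul ap_one ap_inj ext2 ap_zero' ap_one' ap_inv_ap ap_ap_inv)
open Cfsg.Agent.Omega.HOne (cv_le conj_mem_zl conj_mem_cv)
open Cfsg.Agent.Omega.IId.Cv Cfsg.Agent.Omega.IId.Ns
open Cfsg.Agent.Omega.NOThreeL.AFour (Quad)
open Cfsg.Agent.Omega.NOThreeL.KTwo.Defs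
open Cfsg.Agent.MinSimple.VModule (zc_comm zc_sq zc_le mem_zc le_normalizer_o2 normalizer_le_normalizer_zc zc_le_zl
  o2_isPGroup o2_le)
open scoped Pointwise

universe u

variable {G : Type u} [Group G] {F : Type} [Field F]

attribute [local instance] aqComm

section main

variable [Finite G] [CharP F 2] (hG : IsCharacteristicTwoType G) (S : Sylow 2 G) {P : Subgroup G}
  (h : IsParS (S : Subgroup G) P) {k : ℕ}
  {M : NatK F (S : Subgroup G) P (zl (S : Subgroup G) P) (cv (S : Subgroup G) P) k}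
  {U : Subgroup G} (hq : Quad (S : Subgroup G) P U)

/-- coordinates of products in `A` -/
theorem e_prod (s : Finset (Fin k)) (a : Fin k → ↥(zc (o2 P))) (ha : ∀ l ∈ s, a l ∈ VA S P) :
    ((∏ l ∈ s, a l : ↥(zc (o2 P))) : G) ∈ zl (S : Subgroup G) P ∧
      M.e ((∏ l ∈ s, a l : ↥(zc (o2 P))) : G) = ∑ l ∈ s, M.e (a l : G) := by
  classical
  induction s using Finset.induction_on with
  | empty =>
    rw [Finset.prod_empty, Finset.sum_empty]
    exact ⟨one_mem _, e_one M⟩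
  | insert l s hl ih =>
    have h1 := ih fun j hj => ha j (Finset.mem_insert_of_mem hj)
    have h2 : (a l : G) ∈ zl (S : Subgroup G) P := (mem_VA S).1 (ha l (Finset.mem_insert_self l s))
    rw [Finset.prod_insert hl, Finset.sum_insert hl]
    refine ⟨mul_mem h2 h1.1, ?_⟩
    change M.e ((a l : G) * ((∏ l ∈ s, a l : ↥(zc (o2 P))) : G)) = _
    rw [M.mul _ h2 _ h1.1, h1.2]

include hG h in
theorem Nc_le_A (l : Fin k) : Nc M l ≤ zc (o2 P) := (Sd.Nc_le M l).trans (zl_le_A hG S h)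

/-- `n ↦ [u, n]` on `N_l` -/
noncomputable def Kap (hG : IsCharacteristicTwoType G) (S : Sylow 2 G) {P : Subgroup G}
    (h : IsParS (S : Subgroup G) P) {k : ℕ}
    (M : NatK F (S : Subgroup G) P (zl (S : Subgroup G) P) (cv (S : Subgroup G) P) k) {u : G} (hu : u ∈ P)
    (l : Fin k) : ↥(Nc M l) →* ↥(zc (o2 P)) :=
  (cA hu).comp (Subgroup.inclusion (Nc_le_A hG S h l)) * (Subgroup.inclusion (Nc_le_A hG S h l))⁻¹

theorem Kap_val {u : G} (hu : u ∈ P) {l : Fin k} (n : ↥(Nc M l)) :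
    ((Kap hG S h M hu l n : ↥(zc (o2 P))) : G) = u * n * u⁻¹ * (n : G)⁻¹ := rfl

theorem Kap_VA {u : G} (hu : u ∈ P) {l : Fin k} (n : ↥(Nc M l)) : Kap hG S h M hu l n ∈ VA S P := by
  rw [mem_VA, Kap_val]
  exact mul_mem (conj_mem_zl hu (Sd.Nc_le M l n.2)) (inv_mem (Sd.Nc_le M l n.2))

include hG h in
/-- two elements of `P` acting in the same way on the `l`-th coordinates act in the same way on `N_l` -/
theorem eq_on_Nc (hω : ∃ ω : F, ω ≠ 0 ∧ ω ≠ 1) {l : Fin k} {u w : G} (hu : u ∈ P) (hw : w ∈ P)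
    {A : Matrix.SpecialLinearGroup (Fin 2) F}
    (hA : ∀ v ∈ zl (S : Subgroup G) P, M.e (u * v * u⁻¹) l = ap A (M.e v l))
    (hB : ∀ v ∈ zl (S : Subgroup G) P, M.e (w * v * w⁻¹) l = ap A (M.e v l)) {n : G} (hn : n ∈ Nc M l) :
    u * n * u⁻¹ = w * n * w⁻¹ := by
  have h1 : w⁻¹ * u * n = n * (w⁻¹ * u) := by
    refine Sd.comm_Nc_of hG S h M hω (mul_mem (inv_mem hw) hu) (fun v hv => ?_) n hn
    have hv' := conj_mem_zl (mul_mem (inv_mem hw) hu) hv
    have h2 := hB _ hv'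
    have e : w * (w⁻¹ * u * v * (w⁻¹ * u)⁻¹) * w⁻¹ = u * v * u⁻¹ := by group
    rw [e, hA v hv] at h2
    have h3 := congrArg (ap A⁻¹) h2
    rw [ap_inv_ap, ap_inv_ap] at h3
    exact h3.symm
  calc u * n * u⁻¹ = w * (w⁻¹ * u * n) * u⁻¹ := by group
    _ = w * (n * (w⁻¹ * u)) * u⁻¹ := by rw [h1]
    _ = w * n * w⁻¹ := by group

section

variable (hω : ∃ ω : F, ω ≠ 0 ∧ ω ≠ 1)

include hG h hq

theorem Kap_e_ne {u : G} (hu : u ∈ U) {l j : Fin k} (hj : j ≠ l) (n : ↥(Nc M l)) :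
    M.e ((Kap hG S h M (hq.UP hu) l n : ↥(zc (o2 P))) : G) j = 0 := by
  have hnV := Sd.Nc_le M l n.2
  have h1 := (U_acts hG S h hq l.pos hu (M := M)).1 _ hnV j
  rw [Kap_val, e_div M (conj_mem_zl (hq.UP hu) hnV) hnV, Pi.sub_apply, h1, Sd.e_Nc M n.2 hj, ap_zero2, sub_self]

theorem Kap_e {u : G} (hu : u ∈ U) {l : Fin k} (n : ↥(Nc M l)) :
    M.e ((Kap hG S h M (hq.UP hu) l n : ↥(zc (o2 P))) : G) l = ![bt M u l * M.e (n : G) l 1, 0] := by
  have hnV := Sd.Nc_le M l n.2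
  have h1 := (U_acts hG S h hq l.pos hu (M := M)).1 _ hnV l
  rw [Kap_val, e_div M (conj_mem_zl (hq.UP hu) hnV) hnV, Pi.sub_apply, h1, ap_up2]
  apply ext2
  · simp
  · simp

include hω in
theorem Kap_one [Finite F] (hF : 4 ≤ Nat.card F) {S₁ : Subgroup G} {J : Fin k → Prop} (Q : Hf M S₁ J) {u : G}
    (hu : u ∈ U) {l : Fin k} (n : ↥(Nc M l)) (h0 : M.e (n : G) l 1 = 0) : Kap hG S h M (hq.UP hu) l n = 1 := by
  obtain ⟨t, ht, hA⟩ := Q.exists_unip S h l (bt M u l)
  have h1 := (U_acts hG S h hq l.pos hu (M := M)).1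
  have h2 := eq_on_Nc hG S h hω (hq.UP hu) hA.1 (fun v hv => h1 v hv l) (fun v hv => hA.same hv) n.2
  have h3 := fix_line hG S h l.pos hF hA (Sd.Nc_le M l n.2) h0
  apply Subtype.ext
  rw [Kap_val, h2, h3, mul_inv_cancel]
  rfl

end

open Classical in
/-- `(n_l) ↦ ∏_{l ∉ J} [u_l, n_l]` -/
noncomputable def Phi (hG : IsCharacteristicTwoType G) (S : Sylow 2 G) {P : Subgroup G}
    (h : IsParS (S : Subgroup G) P) {k : ℕ}
    (M : NatK F (S : Subgroup G) P (zl (S : Subgroup G) P) (cv (S : Subgroup G) P) k) (J : Fin k → Prop)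
    {us : Fin k → G} (hu : ∀ l, us l ∈ P) : ((l : Fin k) → ↥(Nc M l)) →* ↥(zc (o2 P)) :=
  ∏ l ∈ Finset.univ.filter fun l => ¬ J l, (Kap hG S h M (hu l) l).comp (Pi.evalMonoidHom _ l)

open Classical in
theorem Phi_apply {J : Fin k → Prop} {us : Fin k → G} (hu : ∀ l, us l ∈ P) (n : (l : Fin k) → ↥(Nc M l)) :
    Phi hG S h M J hu n = ∏ l ∈ Finset.univ.filter fun l => ¬ J l, Kap hG S h M (hu l) l (n l) := by
  rw [Phi, MonoidHom.finsetProd_apply]
  rfl

theorem Phi_VA {J : Fin k → Prop} {us : Fin k → G} (hu : ∀ l, us l ∈ P) (n : (l : Fin k) → ↥(Nc M l)) :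
    Phi hG S h M J hu n ∈ VA S P := by
  rw [Phi_apply]
  exact Subgroup.prod_mem _ fun l _ => Kap_VA hG S h (hu l) (n l)

theorem Kap_mem {J : Fin k → Prop} {us : Fin k → G} (hu : ∀ l, us l ∈ P) {l : Fin k} (hl : ¬ J l) (n : ↥(Nc M l)) :
    Kap hG S h M (hu l) l n ∈ (Phi hG S h M J hu).range := by
  classical
  refine ⟨Pi.mulSingle l n, ?_⟩
  rw [Phi_apply, Finset.prod_eq_single l]
  · rw [Pi.mulSingle_eq_same]
  · intro j _ hj
    rw [Pi.mulSingle_eq_of_ne hj, map_one]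
  · intro h1
    exact absurd (Finset.mem_filter.2 ⟨Finset.mem_univ l, hl⟩) h1

section two

variable {us : Fin k → G} (hus : ∀ l, us l ∈ U)

include hG h hq in
theorem Phi_e_J {J : Fin k → Prop} {l : Fin k} (hl : J l) (n : (l : Fin k) → ↥(Nc M l)) :
    M.e ((Phi hG S h M J (fun l => hq.UP (hus l)) n : ↥(zc (o2 P))) : G) l = 0 := by
  classical
  rw [Phi_apply, (e_prod S _ _ fun l _ => Kap_VA hG S h _ (n l)).2, Finset.sum_apply]
  refine Finset.sum_eq_zero fun j hj => ?_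
  have hj1 : ¬ J j := (Finset.mem_filter.1 hj).2
  exact Kap_e_ne hG S h hq (hus j) (fun h1 : l = j => hj1 (h1 ▸ hl)) (n j)

include hG h hq in
theorem Phi_e {J : Fin k → Prop} {l : Fin k} (hl : ¬ J l) (n : (l : Fin k) → ↥(Nc M l)) :
    M.e ((Phi hG S h M J (fun l => hq.UP (hus l)) n : ↥(zc (o2 P))) : G) l =
      ![bt M (us l) l * M.e (n l : G) l 1, 0] := by
  classical
  rw [Phi_apply, (e_prod S _ _ fun l _ => Kap_VA hG S h _ (n l)).2, Finset.sum_apply, Finset.sum_eq_single l]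
  · exact Kap_e hG S h hq (hus l) (n l)
  · intro j _ hj
    exact Kap_e_ne hG S h hq (hus j) hj.symm (n j)
  · intro h1
    exact absurd (Finset.mem_filter.2 ⟨Finset.mem_univ l, hl⟩) h1

include hG h hq in
theorem Phi_mem_U {J : Fin k → Prop} (n : (l : Fin k) → ↥(Nc M l)) :
    ((Phi hG S h M J (fun l => hq.UP (hus l)) n : ↥(zc (o2 P))) : G) ∈ U := by
  have h1 : Phi hG S h M J (fun l => hq.UP (hus l)) n ∈ U.subgroupOf (zc (o2 P)) := by
    rw [Phi_apply]
    refine Subgroup.prod_mem _ fun l _ => ?_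
    rw [mem_subgroupOf, Kap_val]
    exact hq.cm_mem (hus l) (hq.VS (Sd.Nc_le M l (n l).2))
  exact mem_subgroupOf.1 h1

include hG h hq in
theorem Phi_one (hω : ∃ ω : F, ω ≠ 0 ∧ ω ≠ 1) [Finite F] (hF : 4 ≤ Nat.card F) {S₁ : Subgroup G}
    {J : Fin k → Prop} (Q : Hf M S₁ J)
    (hb : ∀ l, bt M (us l) l ≠ 0) (n : (l : Fin k) → ↥(Nc M l))
    (h0 : M.e ((Phi hG S h M J (fun l => hq.UP (hus l)) n : ↥(zc (o2 P))) : G) = 0) :
    Phi hG S h M J (fun l => hq.UP (hus l)) n = 1 := by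
  classical
  rw [Phi_apply]
  refine Finset.prod_eq_one fun l hl => ?_
  have hl1 : ¬ J l := (Finset.mem_filter.1 hl).2
  refine Kap_one hG S h hq hω hF Q (hus l) (n l) ?_
  have h1 := Phi_e hG S h hq hus hl1 n
  rw [h0] at h1
  have h2 := congrFun h1 0
  simp only [Pi.zero_apply, Matrix.cons_val_zero] at h2
  rcases mul_eq_zero.1 h2.symm with h3 | h3
  · exact absurd h3 (hb l)
  · exact h3

include hG h hq in
theorem Phi_norm (hω : ∃ ω : F, ω ≠ 0 ∧ ω ≠ 1) {S₁ : Subgroup G} {J : Fin k → Prop} (Q : Hf M S₁ J)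
    (hb : ∀ l, bt M (us l) l ≠ 0) (h2 : ∀ l, (centralizer (Nc M l : Set G)).relIndex U ≤ 2) {s : G} (hs : s ∈ S₁)
    {y : ↥(zc (o2 P))} (hy : y ∈ (Phi hG S h M J (fun l => hq.UP (hus l))).range) :
    cA (h.le (Q.le hs)) y ∈ (Phi hG S h M J (fun l => hq.UP (hus l))).range := by
  classical
  obtain ⟨n, rfl⟩ := hy
  have hsS := Q.le hs
  have hsP := h.le hsS
  rw [Phi_apply, map_prod]
  refine Subgroup.prod_mem _ fun l hl => ?_
  have hl1 : ¬ J l := (Finset.mem_filter.1 hl).2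
  obtain ⟨l', hm⟩ := exists_Mv (M := M) hsP l
  have hl' : ¬ J l' := fun h1 => hl1 ((Q.stab s hs l l' hm).2 h1)
  have hu' : s * us l * s⁻¹ ∈ U := (mem_normalizer_iff.1 (hq.SU hsS) _).1 (hus l)
  have hb' : bt M (s * us l * s⁻¹) l' ≠ 0 := by
    intro h0
    rw [← mem_cent_iff hG S h hq hω hu'] at h0
    apply hb l
    rw [← mem_cent_iff hG S h hq hω (hus l)]
    refine mem_centralizer_iff.2 fun x hx => ?_
    have h3 := mem_centralizer_iff.1 h0 _ (Nc_mvK hsP hm hx)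
    calc x * us l = s⁻¹ * ((s * x * s⁻¹) * (s * us l * s⁻¹)) * s := by group
      _ = s⁻¹ * ((s * us l * s⁻¹) * (s * x * s⁻¹)) * s := by rw [h3]
      _ = us l * x := by group
  have hbb := eq_of_le_two hG S h hq hω (h2 l') hu' (hus l') hb' (hb l')
  have hn' := Nc_mvK hsP hm (n l).2
  have key : cA hsP (Kap hG S h M (hq.UP (hus l)) l (n l)) =
      Kap hG S h M (hq.UP (hus l')) l' ⟨s * (n l : G) * s⁻¹, hn'⟩ := by
    apply Subtype.ext
    rw [cA_val, Kap_val, Kap_val]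
    have h3 := eq_on_Nc hG S h hω (A := up (bt M (us l') l')) (hq.UP hu') (hq.UP (hus l')) (fun v hv => by
      have h4 := (U_acts hG S h hq l.pos hu' (M := M)).1 v hv l'
      rw [h4]
      change ap (up (bt M (s * us l * s⁻¹) l')) (M.e v l') = _
      rw [hbb]) (fun v hv => (U_acts hG S h hq l.pos (hus l') (M := M)).1 v hv l') hn'
    change _ = us l' * (s * (n l : G) * s⁻¹) * (us l')⁻¹ * (s * (n l : G) * s⁻¹)⁻¹
    rw [← h3]
    group
  rw [key]
  exact Kap_mem hG S h (fun l => hq.UP (hus l)) hl' _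

end two

/-! ### the projection on the fixed vectors of the torus kills the coordinates -/

section avg

variable [Fintype F] [DecidableEq F]

include hG h in
theorem eA_coord_same (hF : 4 ≤ Nat.card F) (i : Fin k) {v : ↥(zc (o2 P))} (hv : v ∈ VA S P) :
    M.e ((eA S M i v : ↥(zc (o2 P))) : G) i = 0 := by
  obtain ⟨ω, h0, h1⟩ := exists_omega hF
  have h2 := eA_tor hG S h i.pos M i (Units.mk0 ω h0) v
  have h3 := congrArg (fun a : ↥(zc (o2 P)) => M.e (a : G) i) h2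
  have hV := (mem_VA S).1 (eA_VA S M (i := i) hv)
  change M.e ((rh S M i (dg ((Units.mk0 ω h0 : Fˣ) : F) (Units.mk0 ω h0).ne_zero) (eA S M i v) : ↥(zc (o2 P))) : G) i =
    M.e ((eA S M i v : ↥(zc (o2 P))) : G) i at h3
  rw [rh_val hG S h i.pos M (lf_spec S M i _), (lf_spec S M i _).same hV] at h3
  have h4 := congrFun h3 0
  have h5 := congrFun h3 1
  rw [ap_zero'] at h4
  rw [ap_one'] at h5
  simp at h4 h5
  have a1 : (ω - 1) * M.e ((eA S M i v : ↥(zc (o2 P))) : G) i 0 = 0 := by linear_combination h4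
  have a2 : (ω⁻¹ - 1) * M.e ((eA S M i v : ↥(zc (o2 P))) : G) i 1 = 0 := by linear_combination h5
  apply ext2
  · exact (mul_eq_zero.1 a1).resolve_left (sub_ne_zero.2 h1)
  · exact (mul_eq_zero.1 a2).resolve_left (sub_ne_zero.2 fun h => h1 (inv_eq_one.1 h))

include hG h in
theorem eL_coord_mem (hF : 4 ≤ Nat.card F) {L : List (Fin k)} {i : Fin k} (hi : i ∈ L) {v : ↥(zc (o2 P))}
    (hv : v ∈ VA S P) : M.e ((eL S M L v : ↥(zc (o2 P))) : G) i = 0 := by
  induction L with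
  | nil => exact absurd hi List.not_mem_nil
  | cons j L ih =>
    by_cases hij : i = j
    · subst hij
      rw [eL_cons]
      exact eA_coord_same hG S h hF i (eL_VA S M L hv)
    · rcases List.mem_cons.1 hi with h1 | h1
      · exact absurd h1 hij
      · rw [eL_cons, eA_coord hG S h i.pos M hij (eL_VA S M L hv)]
        exact ih h1

end avg

/-! ### `X` -/

section fin

variable [Fintype F] [DecidableEq F]

include hG h hq in
/-- **the case `|T| = 2`** -/
theorem exists_Y (hF : 4 ≤ Nat.card F) {S₁ : Subgroup G} {J : Fin k → Prop} (Q : Hf M S₁ J)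
    (h2 : ∀ l, (centralizer (Nc M l : Set G)).relIndex U = 2) {E : Subgroup G} (hEU : E ≤ U)
    (hED : E ≤ cv (S : Subgroup G) P) (hES : ∀ d ∈ E, ∀ s ∈ (S : Subgroup G), s * d = d * s) (hE : E ≠ ⊥) :
    ∃ X ≤ U, 2 < Nat.card X ∧ ∀ x ∈ X, ∃ (r : ↥(zc (o2 P))) (d : G), x = (r : G) * d ∧
      d ∈ cv (S : Subgroup G) P ∧ (∀ s ∈ S₁, s * d = d * s) ∧ (r : G) ∈ zl (S : Subgroup G) P ∧
      (∀ l, J l → M.e (r : G) l = 0) ∧ (∀ l, M.e (r : G) l 1 = 0) ∧ eL S M (LJ fun l => ¬ J l) r = 1 ∧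
      ((∀ l, ¬ J l → M.e (r : G) l ≠ 0) ∨ r = 1) := by
  have hω := exists_omega hF
  have hk := Q.pos S
  -- `u_l`
  have hex : ∀ l, ∃ u ∈ U, bt M u l ≠ 0 := by
    intro l
    by_contra hcon
    push Not at hcon
    have h3 : U ≤ centralizer (Nc M l : Set G) := fun u hu => (mem_cent_iff hG S h hq hω hu).2 (hcon u hu)
    have h4 := h2 l
    rw [relIndex_eq_one.2 h3] at h4
    omega
  choose us hus hb using hex
  have hle : ∀ l, (centralizer (Nc M l : Set G)).relIndex U ≤ 2 := fun l => (h2 l).le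
  set Φ := Phi hG S h M J (fun l => hq.UP (hus l)) with hΦ
  -- a fixed point
  set Y : Subgroup G := Φ.range.map (zc (o2 P)).subtype with hY
  have hYne : Y ≠ ⊥ := by
    intro h3
    obtain ⟨l, hl⟩ := Q.exN
    obtain ⟨n, hn, he⟩ := Sd.Nc_surj M l ![0, 1]
    have h4 := Kap_mem hG S h (J := J) (fun l => hq.UP (hus l)) hl ⟨n, hn⟩
    have h5 : ((Kap hG S h M (hq.UP (hus l)) l ⟨n, hn⟩ : ↥(zc (o2 P))) : G) ∈ Y := ⟨_, h4, rfl⟩
    rw [h3, mem_bot] at h5
    have h6 := Kap_e hG S h hq (hus l) ⟨n, hn⟩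
    rw [h5, e_one M, he] at h6
    have h7 := congrFun h6 0
    simp at h7
    exact hb l h7.symm
  have hYV : ∀ y ∈ Y, y ∈ zl (S : Subgroup G) P := by
    rintro _ ⟨_, ⟨n, rfl⟩, rfl⟩
    exact (mem_VA S).1 (Phi_VA hG S h _ n)
  obtain ⟨y₀, hy₀, hne, hfix⟩ := AdjTransv.exists_fixed (S := S₁) (N := Y) (S.isPGroup'.to_le Q.le) hYne
    (fun n hn => sq_zl hG S h (hYV n hn)) (by
      rintro s hs _ ⟨y, hy, rfl⟩
      exact ⟨_, Phi_norm hG S h hq hus hω Q hb hle hs hy, rfl⟩)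
  obtain ⟨y, ⟨n, hn⟩, rfl⟩ := hy₀
  have hyU : (y : G) ∈ U := by
    rw [← hn]
    exact Phi_mem_U hG S h hq hus n
  have hyVA : y ∈ VA S P := by
    rw [← hn]
    exact Phi_VA hG S h _ n
  have hyV := (mem_VA S).1 hyVA
  have hyJ : ∀ l, J l → M.e (y : G) l = 0 := fun l hl => by
    rw [← hn]
    exact Phi_e_J hG S h hq hus hl n
  have hy1 : ∀ l, M.e (y : G) l 1 = 0 := by
    intro l
    by_cases hl : J l
    · rw [hyJ l hl]; rfl
    · rw [← hn, Phi_e hG S h hq hus hl n]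
      simp
  have hy0 : M.e (y : G) ≠ 0 := by
    intro h0
    apply hne
    rw [← hn] at h0
    have h3 := Phi_one hG S h hq hus hω hF Q hb n h0
    change (y : G) = 1
    rw [← hn]
    exact congrArg Subtype.val h3
  change ∀ s ∈ S₁, s * (y : G) * s⁻¹ = y at hfix
  have hfull : ∀ l, ¬ J l → M.e (y : G) l ≠ 0 := by
    obtain ⟨l₀, hl₀⟩ : ∃ l, M.e (y : G) l ≠ 0 := by
      by_contra hcon
      push Not at hcon
      exact hy0 (funext hcon)
    have hJ₀ : ¬ J l₀ := fun h1 => hl₀ (hyJ _ h1)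
    intro l hl h0
    obtain ⟨s, hs, hm⟩ := Q.transN l₀ l hJ₀ hl
    have h1 := hm _ hyV
    rw [hfix s hs] at h1
    exact hl₀ (h1.1 h0)
  have hysq : y * y = 1 := A_sq y
  have hyS : (y : G) ∈ zc S₁ := MinSimple.VModule.mem_zc.2 ⟨Q.V_le hG S h hyV, fun s hs => by
    have h1 := hfix s hs
    exact mul_inv_eq_iff_eq_mul.1 h1, zc_sq _ _ y.2⟩
  -- the decomposition of `y`
  set L := LJ fun l => ¬ J l with hL
  set d := eL S M L y with hd
  have hdVA : d ∈ VA S P := eL_VA S M L hyVA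
  have hd0 : M.e (d : G) = 0 := by
    funext l
    by_cases hl : J l
    · rw [hd, eL_coord hG S h hk M (fun h1 => (mem_LJ.1 h1) hl) hyVA, hyJ l hl]
      rfl
    · exact eL_coord_mem hG S h hF (mem_LJ.2 hl) hyVA
  have hdcv : (d : G) ∈ cv (S : Subgroup G) P := (M.ker _ ((mem_VA S).1 hdVA)).1 hd0
  have hdS : ∀ s ∈ S₁, s * (d : G) = d * s := by
    intro s hs
    have h1 : cA (h.le (Q.le hs)) y = y := Subtype.ext (by rw [cA_val]; exact hfix s hs)
    have h3 := Q.symm.conj_eJ hG S h hs (a := y) (by rw [h1]; exact Q.fx hG S h hyS)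
    rw [h1] at h3
    have h4 := congrArg Subtype.val h3
    rw [cA_val] at h4
    exact mul_inv_eq_iff_eq_mul.1 h4
  have hr1 : eL S M L (y * d) = 1 := by
    rw [map_mul, hd, eL_idem hG S h hk M]
    exact A_sq _
  have hre : ∀ l, M.e ((y * d : ↥(zc (o2 P))) : G) l = M.e (y : G) l := by
    intro l
    change M.e ((y : G) * (d : G)) l = _
    rw [M.mul _ hyV _ ((mem_VA S).1 hdVA), Pi.add_apply, hd0, Pi.zero_apply, add_zero]
  have hEV : ∀ e ∈ E, e ∈ zl (S : Subgroup G) P := fun e he => cv_le _ _ (hED he)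
  -- `X`
  let X : Subgroup G :=
    { carrier := {x | x ∈ E ∨ ∃ e ∈ E, x = (y : G) * e}
      one_mem' := Or.inl (one_mem E)
      mul_mem' := by
        rintro a b (ha | ⟨e, he, rfl⟩) (hb | ⟨e', he', rfl⟩)
        · exact Or.inl (mul_mem ha hb)
        · refine Or.inr ⟨a * e', mul_mem ha he', ?_⟩
          rw [← mul_assoc, ← mul_assoc, Sd.V_comm hG S h (hEV a ha) hyV]
        · exact Or.inr ⟨e * b, mul_mem he hb, by rw [mul_assoc]⟩
        · refine Or.inl ?_
          have h3 := Sd.V_comm hG S h (hEV e he) hyV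
          have h4 : (y : G) * y = 1 := congrArg Subtype.val hysq
          have h5 : (y : G) * e * ((y : G) * e') = e * e' := by
            calc (y : G) * e * ((y : G) * e') = (y : G) * (e * y) * e' := by group
              _ = (y : G) * (y * e) * e' := by rw [h3]
              _ = ((y : G) * y) * (e * e') := by group
              _ = e * e' := by rw [h4, one_mul]
          rw [h5]
          exact mul_mem he he'
      inv_mem' := by
        rintro a (ha | ⟨e, he, rfl⟩)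
        · exact Or.inl (inv_mem ha)
        · refine Or.inr ⟨e⁻¹, inv_mem he, ?_⟩
          have h4 : (y : G)⁻¹ = y := inv_eq_of_mul_eq_one_left (congrArg Subtype.val hysq)
          rw [mul_inv_rev, h4]
          exact Sd.V_comm hG S h (inv_mem (hEV e he)) hyV }
  refine ⟨X, ?_, ?_, ?_⟩
  · rintro x (hx | ⟨e, he, rfl⟩)
    · exact hEU hx
    · exact mul_mem hyU (hEU he)
  · obtain ⟨e, he, he1⟩ := (bot_or_exists_ne_one E).resolve_left hE
    have hyE : (y : G) ∉ E := fun h1 => hy0 ((M.ker _ hyV).2 (hED h1))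
    have hinj : Function.Injective (fun x : Fin 3 => (![1, ⟨e, Or.inl he⟩, ⟨(y : G), Or.inr ⟨1, one_mem E,
        (mul_one _).symm⟩⟩] : Fin 3 → X) x) := by
      have a1 : (y : G) ≠ 1 := fun h1 => hyE (h1 ▸ one_mem E)
      have a2 : e ≠ y := fun h1 => hyE (h1 ▸ he)
      intro a b hab
      have hab' := congrArg Subtype.val hab
      fin_cases a <;> fin_cases b <;> simp at hab' ⊢
      · exact he1 hab'.symm
      · exact a1 (by simpa using hab'.symm)
      · exact he1 hab'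
      · exact a2 hab'
      · exact a1 (by simpa using hab')
      · exact a2 hab'.symm
    have h6 := Nat.card_le_card_of_injective _ hinj
    rw [Nat.card_eq_fintype_card (α := Fin 3), Fintype.card_fin] at h6
    omega
  · rintro x (hx | ⟨e, he, rfl⟩)
    · refine ⟨1, x, (one_mul x).symm, hED hx, fun s hs => hES x hx s (Q.le hs), one_mem _, fun l _ => ?_, fun l => ?_,
        map_one _, Or.inr rfl⟩
      · change M.e 1 l = 0
        rw [e_one M]; rfl
      · change M.e 1 l 1 = 0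
        rw [e_one M]; rfl
    · refine ⟨y * d, (d : G) * e, ?_, mul_mem hdcv (hED he), fun s hs => ?_, ?_, fun l hl => ?_, fun l => ?_, hr1,
        Or.inl fun l hl => ?_⟩
      · have h4 : (d : G) * d = 1 := congrArg Subtype.val (A_sq d)
        change (y : G) * e = (y : G) * d * (d * e)
        rw [mul_assoc (y : G), ← mul_assoc (d : G), h4, one_mul]
      · have h4 := hES e he s (Q.le hs)
        have h5 := hdS s hs
        calc s * ((d : G) * e) = (s * d) * e := by group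
          _ = d * (s * e) := by rw [h5]; group
          _ = (d : G) * e * s := by rw [h4]; group
      · exact mul_mem hyV ((mem_VA S).1 hdVA)
      · rw [hre, hyJ l hl]
      · rw [hre, hy1]
      · rw [hre]
        exact hfull l hl

end fin

end main

end Cfsg.Agent.Omega.NOThreeL.KTwo
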